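import Cfsg.Agent.Lib.BlockSolv.Form

/-!
# Averages over subgroups; complements of invariant subspaces
-/

set_option autoImplicit false
set_option linter.unusedSectionVars false
set_option linter.style.haveILetI false

namespace CfsgLib.BlockSolv

universe u v

variable {k : Type*} [Field k] {V : Type v} [AddCommGroup V] [Module k V] [FiniteDimensional k V]
  {F : Type u} [Group F] [Finite F]

/-- The fixed space of a subgroup. -/
def fix (ρ : Representation k F V) (K : Subgroup F) : Submodule k V where
  carrier := {x | ∀ a ∈ K, ρ a x = x}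
  add_mem' hx hy a ha := by rw [map_add, hx a ha, hy a ha]
  zero_mem' a _ := map_zero _
  smul_mem' c x hx a ha := by rw [map_smul, hx a ha]

theorem mem_fix {ρ : Representation k F V} {K : Subgroup F} {x : V} :
    x ∈ fix ρ K ↔ ∀ a ∈ K, ρ a x = x := Iff.rfl

/-- Averaging over a subgroup. -/
noncomputable def av (ρ : Representation k F V) (K : Subgroup F) : Module.End k V :=
  haveI := Fintype.ofFinite K
  ((Fintype.card K : k))⁻¹ • ∑ a : K, ρ a

variable (ρ : Representation k F V)

theorem card_ne_zero (hk : (Nat.card F : k) ≠ 0) (K : Subgroup F) : (Nat.card K : k) ≠ 0 := by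
  intro h
  obtain ⟨c, hc⟩ := K.card_subgroup_dvd_card
  exact hk (by rw [hc, Nat.cast_mul, h, zero_mul])

theorem rho_av {K : Subgroup F} {a : F} (ha : a ∈ K) (x : V) : ρ a (av ρ K x) = av ρ K x := by
  letI := Fintype.ofFinite K
  simp only [av, LinearMap.smul_apply, LinearMap.sum_apply, map_smul, map_sum]
  congr 1
  refine Fintype.sum_equiv (Equiv.mulLeft (⟨a, ha⟩ : K)) _ _ fun b => ?_
  rw [Equiv.coe_mulLeft, Subgroup.coe_mul, map_mul, Module.End.mul_apply]

theorem av_mem_fix (K : Subgroup F) (x : V) : av ρ K x ∈ fix ρ K := fun _ ha => rho_av ρ ha x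

theorem av_eq_self (hk : (Nat.card F : k) ≠ 0) {K : Subgroup F} {x : V} (hx : x ∈ fix ρ K) :
    av ρ K x = x := by
  letI := Fintype.ofFinite K
  simp only [av, LinearMap.smul_apply, LinearMap.sum_apply]
  rw [Finset.sum_congr rfl fun (a : K) _ => hx a a.2, Finset.sum_const, Finset.card_univ,
    ← Nat.cast_smul_eq_nsmul k, smul_smul,
    inv_mul_cancel₀ (by rw [← Nat.card_eq_fintype_card]; exact card_ne_zero hk K), one_smul]

theorem av_commute {A : Subgroup F} [IsMulCommutative A] {K L : Subgroup F} (hK : K ≤ A)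
    (hL : L ≤ A) (x : V) : av ρ K (av ρ L x) = av ρ L (av ρ K x) := by
  letI := Fintype.ofFinite K
  letI := Fintype.ofFinite L
  simp only [av, LinearMap.smul_apply, LinearMap.sum_apply, map_smul, map_sum, Finset.smul_sum,
    smul_smul]
  rw [Finset.sum_comm]
  refine Finset.sum_congr rfl fun a _ => Finset.sum_congr rfl fun b _ => ?_
  rw [mul_comm, ← Module.End.mul_apply, ← Module.End.mul_apply, ← map_mul, ← map_mul,
    show (a : F) * b = b * a from
      congrArg Subtype.val (mul_comm' (⟨a, hK a.2⟩ : A) ⟨b, hL b.2⟩)]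

theorem rho_av_conj (K : Subgroup F) (g : F) (x : V) :
    ρ g (av ρ K x) = av ρ (K.map (MulAut.conj g).toMonoidHom) (ρ g x) := by
  letI := Fintype.ofFinite K
  letI := Fintype.ofFinite (K.map (MulAut.conj g).toMonoidHom)
  simp only [av, LinearMap.smul_apply, LinearMap.sum_apply, map_smul, map_sum]
  rw [Fintype.card_congr (K.equivMapOfInjective (MulAut.conj g).toMonoidHom (MulAut.conj g).injective).toEquiv]
  congr 1
  refine Fintype.sum_equiv (K.equivMapOfInjective (MulAut.conj g).toMonoidHom (MulAut.conj g).injective).toEquiv _ _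
    fun a => ?_
  show ρ g (ρ (a : F) x) = ρ (g * a * g⁻¹) (ρ g x)
  rw [map_mul, map_mul, Module.End.mul_apply, Module.End.mul_apply,
    Representation.inv_self_apply]

/-- An invariant subspace is the range of an invariant idempotent. -/
theorem exists_invariant_idem (hk : (Nat.card F : k) ≠ 0) (U : Submodule k V)
    (hU : ∀ g : F, ∀ x ∈ U, ρ g x ∈ U) :
    ∃ e : Module.End k V, (∀ x, e (e x) = e x) ∧ LinearMap.range e = U ∧
      ∀ g x, ρ g (e x) = e (ρ g x) := by
  classical
  letI := Fintype.ofFinite F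
  obtain ⟨W, hW⟩ := U.exists_isCompl
  let π : Module.End k V := U.projection W hW
  let e : Module.End k V := (Fintype.card F : k)⁻¹ • ∑ g : F, ρ g ∘ₗ π ∘ₗ ρ g⁻¹
  have hmem : ∀ x, e x ∈ U := fun x => by
    simp only [e, LinearMap.smul_apply, LinearMap.sum_apply, LinearMap.comp_apply]
    exact U.smul_mem _ (U.sum_mem fun g _ => hU g _ (Submodule.projection_apply_mem hW _))
  have hid : ∀ x ∈ U, e x = x := fun x hx => by
    simp only [e, LinearMap.smul_apply, LinearMap.sum_apply, LinearMap.comp_apply]
    rw [Finset.sum_congr rfl fun g _ => by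
      rw [show π (ρ g⁻¹ x) = ρ g⁻¹ x from Submodule.projection_apply_left hW ⟨_, hU _ _ hx⟩,
        Representation.self_inv_apply]]
    rw [Finset.sum_const, Finset.card_univ, ← Nat.cast_smul_eq_nsmul k, smul_smul,
      inv_mul_cancel₀ (by rwa [← Nat.card_eq_fintype_card]), one_smul]
  refine ⟨e, fun x => hid _ (hmem x), le_antisymm ?_ fun x hx => ⟨x, hid x hx⟩, fun g x => ?_⟩
  · rintro _ ⟨x, rfl⟩; exact hmem x
  simp only [e, LinearMap.smul_apply, LinearMap.sum_apply, LinearMap.comp_apply, map_smul, map_sum]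
  congr 1
  refine Fintype.sum_equiv (Equiv.mulLeft g) _ _ fun b => ?_
  rw [Equiv.coe_mulLeft, map_mul, Module.End.mul_apply, mul_inv_rev, map_mul, Module.End.mul_apply,
    Representation.inv_self_apply]

end CfsgLib.BlockSolv
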