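import Cfsg.Agent.Lib.BlockSolv.KGV
import Cfsg.Agent.Lib.SolvClasses.Main
import Cfsg.Agent.Lib.SolvClasses.Layer
import Cfsg.Agent.Lib.FgsC.HallCount
import Cfsg.Agent.Lib.Base.MinimalNormal
import Cfsg.Agent.Lib.Base.Fitting
import Cfsg.Agent.Lib.Coprime.Action2
import Cfsg.Agent.Lib.PGroups.Basic

/-!
# Classes of a solvable group without normal subgroups of order prime to `p`
-/

set_option autoImplicit false
set_option linter.unusedSectionVars false
set_option linter.style.haveILetI false
set_option maxHeartbeats 1000000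

namespace CfsgLib.BlockSolv

open Cfsg
open scoped commutatorElement

universe u

/-- `k(X) ≤ [X : T] k(T)`. -/
theorem card_classes_le_index_mul {X : Type*} [Group X] [Finite X] (T : Subgroup X) :
    Nat.card (ConjClasses X) ≤ T.index * Nat.card (ConjClasses T) := by
  classical
  have hcent : ∀ x : X, Nat.card {y : X // Commute x y} ≤
      T.index * Nat.card {t : T // Commute x t} := by
    intro x
    let f : {y : X // Commute x y} → X ⧸ T := fun y => (y.1 : X ⧸ T)
    letI := Fintype.ofFinite (X ⧸ T)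
    rw [← Nat.card_congr (Equiv.sigmaFiberEquiv f), Nat.card_sigma]
    refine (Finset.sum_le_card_nsmul _ _ (Nat.card {t : T // Commute x t}) fun c _ => ?_).trans ?_
    · rcases isEmpty_or_nonempty {y // f y = c} with h | ⟨⟨⟨y₀, hy₀⟩, hc⟩⟩
      · simp
      · refine Nat.card_le_card_of_injective
          (fun y => ⟨⟨y₀⁻¹ * y.1.1, QuotientGroup.eq.mp (hc.trans y.2.symm)⟩,
            hy₀.inv_right.mul_right y.1.2⟩) fun a b hab => ?_
        exact Subtype.ext (Subtype.ext (mul_left_cancel
          (congrArg (fun t => ((t.1 : T) : X)) hab)))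
    · rw [Finset.card_univ, ← Nat.card_eq_fintype_card, smul_eq_mul]
      rfl
  letI := Fintype.ofFinite X
  letI := Fintype.ofFinite T
  have h1 : Nat.card {p : X × X // Commute p.1 p.2} ≤
      T.index * Nat.card {p : X × T // Commute p.1 (p.2 : X)} := by
    rw [Nat.card_congr (Equiv.subtypeProdEquivSigmaSubtype fun a b : X => Commute a b),
      Nat.card_congr (Equiv.subtypeProdEquivSigmaSubtype fun (a : X) (b : T) => Commute a (b : X)),
      Nat.card_sigma, Nat.card_sigma, Finset.mul_sum]
    exact Finset.sum_le_sum fun x _ => hcent x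
  have h2 : Nat.card {p : X × T // Commute p.1 (p.2 : X)} ≤
      T.index * Nat.card {p : T × T // Commute p.1 p.2} := by
    rw [Nat.card_congr (show {p : X × T // Commute p.1 (p.2 : X)} ≃
        {p : T × X // Commute (p.1 : X) p.2} from
        ⟨fun p => ⟨(p.1.2, p.1.1), p.2.symm⟩, fun p => ⟨(p.1.2, p.1.1), p.2.symm⟩,
          fun _ => rfl, fun _ => rfl⟩),
      Nat.card_congr (Equiv.subtypeProdEquivSigmaSubtype fun (a : T) (b : X) => Commute (a : X) b),
      Nat.card_congr (Equiv.subtypeProdEquivSigmaSubtype fun a b : T => Commute a b),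
      Nat.card_sigma, Nat.card_sigma, Finset.mul_sum]
    refine Finset.sum_le_sum fun t _ => (hcent (t : X)).trans_eq ?_
    congr 1
    refine Nat.card_congr (Equiv.subtypeEquivRight fun b => ?_)
    exact ⟨fun h => Subtype.ext h, fun h => congrArg Subtype.val h⟩
  rw [card_comm_eq_card_conjClasses_mul_card] at h1
  rw [card_comm_eq_card_conjClasses_mul_card] at h2
  have h3 := h1.trans (Nat.mul_le_mul_left _ h2)
  rw [← T.index_mul_card] at h3
  refine Nat.le_of_mul_le_mul_right (c := T.index * Nat.card T) ?_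
    (Nat.mul_pos (Nat.pos_of_ne_zero Subgroup.index_ne_zero_of_finite) Nat.card_pos)
  refine h3.trans_eq ?_
  ring

/-- Faithful complex representations of degree `n` for faithful coprime actions on `p^n` points. -/
def LiftHyp (p : ℕ) [Fact p.Prime] : Prop :=
  ∀ (Y : Type u) [Group Y] [Finite Y], ¬ p ∣ Nat.card Y →
    ∀ (W : Type u) [AddCommGroup W] [Module (ZMod p) W] [FiniteDimensional (ZMod p) W]
      (ρ : Representation (ZMod p) Y W), Function.Injective ρ →
      ∃ f : Y →* GL (Fin (Module.finrank (ZMod p) W)) ℂ, Function.Injective f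

/-- `k(Y) ≤ 3 ^ (n - 1) p ^ n` for a solvable coprime linear group with its module. -/
theorem card_classes_linear {Y : Type u} [Group Y] [Finite Y] (p : ℕ) [hp : Fact p.Prime]
    (hp2 : p ≠ 2) (hlift : LiftHyp.{u} p) (hsolv : Group.IsSolvable Y) (V : Subgroup Y) [V.Normal]
    (hVexp : ∀ v ∈ V, v ^ p = 1) (hidx : ¬ p ∣ V.index)
    (hself : Subgroup.centralizer (V : Set Y) = V) (H : Subgroup Y)
    (hVH : Subgroup.IsComplement' V H) {n : ℕ} (hn : Nat.card V = p ^ n) (hn0 : 0 < n) :
    Nat.card (ConjClasses Y) ≤ 3 ^ (n - 1) * p ^ n := by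
  classical
  haveI : IsMulCommutative V := ⟨⟨fun a b => Subtype.ext (by
    have hb : (b : Y) ∈ Subgroup.centralizer (V : Set Y) := by rw [hself]; exact b.2
    exact Subgroup.mem_centralizer_iff.1 hb a a.2)⟩⟩
  letI : AddCommGroup (Additive V) :=
    { (inferInstance : AddGroup (Additive V)) with
      add_comm := fun a b => Additive.toMul.injective (mul_comm' (Additive.toMul a) (Additive.toMul b)) }
  have hexpA : ∀ x : Additive V, p • x = 0 := fun x =>
    Additive.toMul.injective (Subtype.ext (hVexp _ (Additive.toMul x).2))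
  letI := AddCommGroup.zmodModule (n := p) (G := Additive V) hexpA
  haveI : Module.Finite (ZMod p) (Additive V) := Module.Finite.of_finite
  let ρ : Representation (ZMod p) H (Additive V) :=
    { toFun := fun g => ((MonoidHom.toAdditive
        ((MulAut.conjNormal (H := V) (g : Y)).toMonoidHom)).toZModLinearMap p :
          Module.End (ZMod p) (Additive V))
      map_one' := LinearMap.ext fun x => by
        apply Additive.toMul.injective
        exact Subtype.ext (by simp)
      map_mul' := fun g h => LinearMap.ext fun x => by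
        apply Additive.toMul.injective
        exact Subtype.ext (by simp [mul_assoc]) }
  have hdisj : ∀ {y : Y}, y ∈ V → y ∈ H → y = 1 := fun h1 h2 =>
    Subgroup.disjoint_def.1 hVH.disjoint h1 h2
  have hρ : Function.Injective ρ := by
    intro a b hab
    have hc : (b : Y)⁻¹ * a ∈ Subgroup.centralizer (V : Set Y) := by
      rw [Subgroup.mem_centralizer_iff]
      intro v hv
      have h1 := congrArg (fun f : Module.End (ZMod p) (Additive V) =>
        ((Additive.toMul (f (Additive.ofMul (⟨v, hv⟩ : V))) : V) : Y)) hab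
      change (a : Y) * v * (a : Y)⁻¹ = (b : Y) * v * (b : Y)⁻¹ at h1
      calc v * ((b : Y)⁻¹ * a) = (b : Y)⁻¹ * ((b : Y) * v * (b : Y)⁻¹) * a := by group
        _ = (b : Y)⁻¹ * a * v := by rw [← h1]; group
    rw [hself] at hc
    exact Subtype.ext (inv_mul_eq_one.1 (hdisj hc (mul_mem (inv_mem b.2) a.2))).symm
  have hcardH : ¬ p ∣ Nat.card H := by rwa [← hVH.symm.index_eq_card]
  have hfr : Module.finrank (ZMod p) (Additive V) = n := by
    have h := Module.natCard_eq_pow_finrank (K := ZMod p) (V := Additive V)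
    rw [Nat.card_congr Additive.toMul, hn, Nat.card_zmod] at h
    exact (Nat.pow_right_injective hp.out.two_le h).symm
  obtain ⟨f, hf⟩ := hlift H hcardH (Additive V) ρ hρ
  rw [← hfr]
  -- the Fitting subgroup of the complex linear group
  let G' := f.range
  haveI : Finite G' := Finite.of_surjective _ f.rangeRestrict_surjective
  haveI hFn : (fittingSubgroup G').Normal := CfsgLib.Base.fittingSubgroup_normal' G'
  haveI : Group.IsNilpotent (fittingSubgroup G') := CfsgLib.Base.isNilpotent_fittingSubgroup G'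
  have hsolvH : Group.IsSolvable H := Group.isSolvable_of_isSolvable_injective (f := H.subtype) H.subtype_injective
  have hsolvG : Group.IsSolvable G' := Group.isSolvable_of_surjective f.rangeRestrict_surjective
  have hG' := CfsgLib.SolvClasses.card_classes_le
    (fun q m _ X hm hs hirr => CfsgLib.SolvClasses.maxK_symplectic hm X hs hirr) G' hsolvG ⊤
  have hq : Nat.card (ConjClasses (G' ⧸ fittingSubgroup G')) ≤
      3 ^ (Module.finrank (ZMod p) (Additive V) - 1) := by
    refine le_trans (CfsgLib.SolvClasses.card_le_of_surjective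
      (QuotientGroup.map _ _ (⊤ : Subgroup G').subtype le_rfl) ?_) hG'
    intro x
    obtain ⟨g, rfl⟩ := QuotientGroup.mk_surjective x
    exact ⟨((⟨g, Subgroup.mem_top g⟩ : (⊤ : Subgroup G')) : _ ⧸ _), rfl⟩
  -- the projection to the complement
  let e : H →* Y ⧸ V := (QuotientGroup.mk' V).comp H.subtype
  have he : Function.Bijective e := by
    refine ⟨(injective_iff_map_eq_one e).2 fun a ha =>
      Subtype.ext (hdisj ((QuotientGroup.eq_one_iff _).1 ha) a.2), fun x => ?_⟩
    obtain ⟨y, rfl⟩ := QuotientGroup.mk_surjective x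
    obtain ⟨⟨v, h⟩, rfl⟩ := hVH.2 y
    exact ⟨h, by simp [e, QuotientGroup.mk_mul, (QuotientGroup.eq_one_iff (v : Y)).2 v.2]⟩
  let eH := MulEquiv.ofBijective e he
  let π : Y →* G' := f.rangeRestrict.comp (eH.symm.toMonoidHom.comp (QuotientGroup.mk' V))
  have hπs : Function.Surjective π := f.rangeRestrict_surjective.comp
    (eH.symm.surjective.comp (QuotientGroup.mk'_surjective V))
  have hπV : ∀ v ∈ V, π v = 1 := fun v hv => by
    simp [π, (QuotientGroup.eq_one_iff v).2 hv]
  have hπH : ∀ h : H, π h = f.rangeRestrict h := fun h => by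
    show f.rangeRestrict (eH.symm (e h)) = _
    rw [show e h = eH h from rfl, MulEquiv.symm_apply_apply]
  let N := (fittingSubgroup G').comap π
  haveI : N.Normal := hFn.comap π
  have hVN : V ≤ N := fun v hv => by
    rw [Subgroup.mem_comap, hπV v hv]; exact one_mem _
  have hquot : Nat.card (ConjClasses (Y ⧸ N)) ≤
      Nat.card (ConjClasses (G' ⧸ fittingSubgroup G')) := by
    let φ := (QuotientGroup.mk' (fittingSubgroup G')).comp π
    have hk : φ.ker = N := by
      rw [← MonoidHom.comap_ker, QuotientGroup.ker_mk']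
    let e' := (QuotientGroup.quotientMulEquivOfEq hk).symm.trans
      (QuotientGroup.quotientKerEquivOfSurjective φ ((QuotientGroup.mk'_surjective _).comp hπs))
    exact CfsgLib.SolvClasses.card_le_of_surjective e'.symm.toMonoidHom e'.symm.surjective
  -- the nilpotent part
  have hN : Nat.card (ConjClasses N) ≤ Nat.card V := by
    let VN := V.subgroupOf N
    let HN := H.subgroupOf N
    have hcardVN : Nat.card VN = Nat.card V :=
      Nat.card_congr (Subgroup.subgroupOfEquivOfLe hVN).toEquiv
    have hcomp : Subgroup.IsComplement' VN HN := by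
      refine Subgroup.isComplement'_of_disjoint_and_mul_eq_univ ?_ ?_
      · rw [Subgroup.disjoint_def]
        exact fun {x} h1 h2 => Subtype.ext (hdisj h1 h2)
      · refine Set.eq_univ_of_forall fun y => ?_
        obtain ⟨⟨v, h⟩, hvh⟩ := hVH.2 (y : Y)
        have hh : (h : Y) ∈ N := by
          have : (h : Y) = (v : Y)⁻¹ * y := by rw [← hvh]; group
          rw [this]
          exact mul_mem (inv_mem (hVN v.2)) y.2
        exact ⟨⟨v, hVN v.2⟩, v.2, ⟨h, hh⟩, h.2, Subtype.ext hvh⟩
    haveI : Group.IsNilpotent HN := by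
      let r : HN →* fittingSubgroup G' :=
        { toFun := fun x => ⟨π ((x : N) : Y), (x : N).2⟩
          map_one' := by ext; simp
          map_mul' := fun a b => by ext; simp }
      suffices hr : Function.Injective r by
        exact Group.nilpotent_of_mulEquiv (MonoidHom.ofInjective hr).symm
      intro a b hab
      have h1 : π ((a : N) : Y) = π ((b : N) : Y) := congrArg Subtype.val hab
      rw [show ((a : N) : Y) = ((⟨_, a.2⟩ : H) : Y) from rfl,
        show ((b : N) : Y) = ((⟨_, b.2⟩ : H) : Y) from rfl, hπH, hπH] at h1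
      have := f.rangeRestrict_injective_iff.2 hf h1
      exact Subtype.ext (Subtype.ext (congrArg Subtype.val this :))
    rw [← hcardVN]
    refine card_classes_le_of_nilpotent p hp2 VN
      (fun v hv => Subtype.ext (by simpa using hVexp _ hv)) ?_ ?_ HN hcomp
    · intro hd
      exact hidx (hd.trans (Subgroup.relIndex_dvd_index_of_normal V N))
    · refine le_antisymm (fun x hx => ?_) fun x hx => ?_
      · show (x : Y) ∈ V
        rw [← SetLike.mem_coe, ← hself]
        exact Subgroup.mem_centralizer_iff.2 fun v hv =>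
          congrArg Subtype.val (Subgroup.mem_centralizer_iff.1 hx ⟨v, hVN hv⟩ hv)
      · refine Subgroup.mem_centralizer_iff.2 fun v hv => Subtype.ext ?_
        have h := mul_comm' (⟨_, hv⟩ : V) ⟨_, hx⟩
        exact (congrArg (fun t : V => (t : Y)) h :)
  calc Nat.card (ConjClasses Y)
      ≤ Nat.card (ConjClasses N) * Nat.card (ConjClasses (Y ⧸ N)) :=
        CfsgLib.SolvClasses.card_le_mul_quotient N
    _ ≤ Nat.card V * 3 ^ (Module.finrank (ZMod p) (Additive V) - 1) :=
        Nat.mul_le_mul hN (hquot.trans hq)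
    _ = _ := by rw [hn, hfr, mul_comm]

open scoped Pointwise in
/-- A solvable group with trivial `O_{p'}` has at most `3 ^ (d - 1) p ^ d` classes. -/
theorem card_classes_le_pow {X : Type u} [Group X] [Finite X] (p : ℕ) [hp : Fact p.Prime]
    (hp2 : p ≠ 2) (hlift : LiftHyp.{u} p) (hsolv : Group.IsSolvable X)
    (hO : pPrimeCore p X = ⊥) :
    Nat.card (ConjClasses X) ≤
      3 ^ ((Nat.card X).factorization p - 1) * p ^ (Nat.card X).factorization p := by
  classical
  haveI := hsolv
  rcases subsingleton_or_nontrivial X with hX | hX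
  · rw [Nat.card_of_subsingleton (1 : X)]
    simp only [Nat.factorization_one, Finsupp.coe_zero, Pi.zero_apply, pow_zero, mul_one]
    haveI : Subsingleton (ConjClasses X) := ConjClasses.mk_surjective.subsingleton
    rw [Nat.card_of_subsingleton (ConjClasses.mk (1 : X))]
    exact Nat.one_le_pow _ _ (by norm_num)
  set U := pCore p X with hU
  have hUp : IsPGroup p U := CfsgLib.Base.isPGroup_pCore p X
  set Φ := (frattini U).map U.subtype with hΦ
  haveI : Φ.Normal := inferInstance
  have hCU : Subgroup.centralizer (U : Set X) ≤ U :=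
    CfsgLib.Base.centralizer_pCore_le_of_isSolvable hO
  have hUne : U ≠ ⊥ := fun h => by
    have := hCU
    rw [h, Subgroup.coe_bot] at this
    obtain ⟨x, hx⟩ := exists_ne (1 : X)
    exact hx (Subgroup.mem_bot.1 (this (Subgroup.mem_centralizer_iff.2 (by simp))))
  obtain ⟨a, ha⟩ := IsPGroup.iff_card.1 hUp
  set d := (Nat.card X).factorization p with hd
  have hsplit := Nat.ordProj_mul_ordCompl_eq_self (Nat.card X) p
  rw [← hd] at hsplit
  have hcop : (Nat.card X / p ^ d).Coprime (p ^ d) :=
    Nat.Coprime.pow_right _ (Nat.coprime_ordCompl hp.out Nat.card_pos.ne').symm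
  obtain ⟨H, hH⟩ := CfsgLib.FgsC.HallCount.exists_hall_card (G := X)
    (m := Nat.card X / p ^ d) (n := p ^ d) (by rw [mul_comm]; exact hsplit.symm) hcop
  have hHp : ¬ p ∣ Nat.card H := by
    rw [hH]
    exact Nat.not_dvd_ordCompl hp.out Nat.card_pos.ne'
  have hUH : ∀ {x : X}, x ∈ U → x ∈ H → x = 1 := by
    intro x hx hy
    have h1 : Nat.card (U ⊓ H : Subgroup X) ∣ Nat.card H := Subgroup.card_dvd_of_le inf_le_right
    have h2 : Nat.card (U ⊓ H : Subgroup X) ∣ p ^ a := ha ▸ Subgroup.card_dvd_of_le inf_le_left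
    have h3 := Nat.dvd_gcd h1 h2
    rw [Nat.Coprime.gcd_eq_one (Nat.Coprime.pow_right a (hp.out.coprime_iff_not_dvd.2 hHp).symm),
      Nat.dvd_one, Subgroup.card_eq_one] at h3
    exact Subgroup.mem_bot.1 (h3 ▸ ⟨hx, hy⟩)
  set T := U ⊔ H with hT
  have hΦU : Φ ≤ U := Subgroup.map_subtype_le _
  have hcompT : Subgroup.IsComplement' (U.subgroupOf T) (H.subgroupOf T) := by
    refine Subgroup.isComplement'_of_disjoint_and_mul_eq_univ ?_ ?_
    · rw [Subgroup.disjoint_def]
      exact fun {x} h1 h2 => Subtype.ext (hUH h1 h2)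
    · refine Set.eq_univ_of_forall fun y => ?_
      have hy : (y : X) ∈ (U : Set X) * (H : Set X) := by
        rw [← Subgroup.normal_mul]; exact y.2
      obtain ⟨u, hu, h, hh, huh⟩ := hy
      exact ⟨⟨u, le_sup_left (b := H) hu⟩, hu, ⟨h, le_sup_right (a := U) hh⟩, hh, Subtype.ext huh⟩
  have hTcard : Nat.card T = p ^ a * Nat.card H := by
    rw [← hcompT.card_mul, Nat.card_congr (Subgroup.subgroupOfEquivOfLe (le_sup_left : U ≤ T)).toEquiv,
      Nat.card_congr (Subgroup.subgroupOfEquivOfLe (le_sup_right : H ≤ T)).toEquiv, ha]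
  have had : a ≤ d := by
    rw [hd, ← (hp.out.pow_dvd_iff_le_factorization Nat.card_pos.ne'), ← ha]
    exact U.card_subgroup_dvd_card
  have hTi : T.index = p ^ (d - a) := by
    refine Nat.eq_of_mul_eq_mul_right (Nat.card_pos (α := T)) ?_
    rw [T.index_mul_card, hTcard, ← mul_assoc, ← pow_add, Nat.sub_add_cancel had, hH, mul_comm]
    exact (mul_comm _ _).trans hsplit |>.symm
  -- the quotient by the Frattini subgroup of the p-core
  set ΦT := Φ.subgroupOf T with hΦT
  let q := QuotientGroup.mk' ΦT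
  set V := (U.subgroupOf T).map q with hV
  set Hb := (H.subgroupOf T).map q with hHb
  haveI : (U.subgroupOf T).Normal := inferInstance
  haveI : V.Normal := Subgroup.Normal.map inferInstance q (QuotientGroup.mk'_surjective ΦT)
  have hVexp : ∀ v ∈ V, v ^ p = 1 := by
    rintro _ ⟨u, hu, rfl⟩
    rw [← map_pow]
    refine (QuotientGroup.eq_one_iff _).2 ?_
    exact ⟨(⟨(u : X), hu⟩ : U) ^ p, CfsgLib.PGroups.pow_mem_frattini hUp _, by simp⟩
  have hdisjb : ∀ {x : T}, x ∈ H.subgroupOf T → q x ∈ V → x = 1 := by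
    rintro x hx ⟨u, hu, hux⟩
    have : u⁻¹ * x ∈ ΦT := QuotientGroup.eq.1 hux
    refine Subtype.ext (hUH ?_ hx)
    rw [show (x : X) = (u : X) * ((u⁻¹ * x : T) : X) by simp]
    exact mul_mem hu (hΦU this)
  have hcomp : Subgroup.IsComplement' V Hb := by
    refine Subgroup.isComplement'_of_disjoint_and_mul_eq_univ ?_ ?_
    · rw [Subgroup.disjoint_def]
      rintro _ h1 ⟨x, hx, rfl⟩
      rw [hdisjb hx h1, map_one]
    · refine Set.eq_univ_of_forall fun y => ?_
      obtain ⟨y, rfl⟩ := QuotientGroup.mk'_surjective ΦT y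
      obtain ⟨⟨u, h⟩, rfl⟩ := hcompT.2 y
      exact ⟨q u, ⟨u, u.2, rfl⟩, q h, ⟨h, h.2, rfl⟩, (map_mul q _ _).symm⟩
  have hidx : ¬ p ∣ V.index := by
    rw [hcomp.symm.index_eq_card]
    intro h
    refine hHp (h.trans ((Subgroup.card_map_dvd _ q).trans ?_))
    rw [Nat.card_congr (Subgroup.subgroupOfEquivOfLe (le_sup_right : H ≤ T)).toEquiv]
  have hab : ∀ v ∈ V, ∀ w ∈ V, v * w = w * v := by
    rintro _ ⟨u, hu, rfl⟩ _ ⟨w, hw, rfl⟩
    rw [← map_mul, ← map_mul]
    refine QuotientGroup.eq.2 ?_
    refine ⟨⁅(⟨(w : X), hw⟩ : U)⁻¹, (⟨(u : X), hu⟩ : U)⁻¹⁆,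
      CfsgLib.PGroups.commutator_le_frattini hUp
        (Subgroup.commutator_mem_commutator (Subgroup.mem_top _) (Subgroup.mem_top _)), ?_⟩
    simp [commutatorElement_def, mul_assoc]
  have hself : Subgroup.centralizer (V : Set (T ⧸ ΦT)) = V := by
    refine le_antisymm (fun c hc => ?_) fun v hv =>
      Subgroup.mem_centralizer_iff.2 fun w hw => hab w hw v hv
    obtain ⟨⟨v, ⟨_, x, hx, rfl⟩⟩, rfl⟩ := hcomp.2 c
    have hxc : q x ∈ Subgroup.centralizer (V : Set (T ⧸ ΦT)) := by
      have h1 : (v : T ⧸ ΦT) ∈ Subgroup.centralizer (V : Set (T ⧸ ΦT)) :=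
        Subgroup.mem_centralizer_iff.2 fun w hw => hab w hw v v.2
      simpa using mul_mem (inv_mem h1) hc
    have hA : Subgroup.zpowers (x : X) ≤ Subgroup.centralizer (U : Set X) := by
      refine CfsgLib.Coprime.le_centralizer_of_trivial_mod_frattini (fun y _ => ?_) ?_ ?_
      · exact (Subgroup.normalizer_eq_top (H := U)).symm ▸ Subgroup.mem_top y
      · refine Nat.Coprime.coprime_dvd_left
          (Subgroup.card_dvd_of_le (Subgroup.zpowers_le.2 (show (x : X) ∈ H from hx))) ?_
        obtain ⟨b, hb⟩ := IsPGroup.iff_card.1 (hUp.to_subgroup (frattini U))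
        rw [hb]
        exact Nat.Coprime.pow_right b (hp.out.coprime_iff_not_dvd.2 hHp).symm
      · rintro y ⟨i, rfl⟩ k hk
        have h2 := Subgroup.mem_centralizer_iff.1 (zpow_mem hxc i)
          (q ⟨k, le_sup_left (b := H) hk⟩) ⟨_, hk, rfl⟩
        rw [show q x ^ i = q (x ^ i) from (map_zpow q x i).symm, ← map_mul, ← map_mul] at h2
        show (x : X) ^ i * k * ((x : X) ^ i)⁻¹ * k⁻¹ ∈ Φ
        have h5 : ((⟨k, le_sup_left (b := H) hk⟩ * x ^ i)⁻¹ * (x ^ i * ⟨k, le_sup_left (b := H) hk⟩) : T) ∈ ΦT :=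
          QuotientGroup.eq.1 h2
        have h4 := Subgroup.Normal.conj_mem (inferInstance : Φ.Normal) _ h5 (k * (x : X) ^ i)
        simpa [mul_assoc] using h4
    have hxU : (x : X) ∈ U := hCU (hA (Subgroup.mem_zpowers _))
    have hx1 : x = 1 := Subtype.ext (hUH hxU hx)
    simp [hx1]
  have hΦTcard : Nat.card ΦT = Nat.card Φ :=
    Nat.card_congr (Subgroup.subgroupOfEquivOfLe (hΦU.trans le_sup_left)).toEquiv
  obtain ⟨n, hn⟩ := IsPGroup.iff_card.1 ((hUp.comap_subtype (K := T)).map q)
  obtain ⟨b, hb⟩ := IsPGroup.iff_card.1 (hUp.to_le hΦU)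
  have hbn : b + n = a := by
    have h1 : Nat.card (T ⧸ ΦT) * Nat.card ΦT = Nat.card T :=
      (Subgroup.card_eq_card_quotient_mul_card_subgroup ΦT).symm
    have hinj : Nat.card Hb = Nat.card H := by
      rw [← Nat.card_congr (Subgroup.subgroupOfEquivOfLe (le_sup_right : H ≤ T)).toEquiv]
      refine (Nat.card_congr (Equiv.ofBijective
        (fun x : H.subgroupOf T => (⟨q x, x, x.2, rfl⟩ : Hb)) ⟨fun x y hxy => ?_, ?_⟩)).symm
      · have h0 : q ((x : T)⁻¹ * y) = 1 := by
          rw [map_mul, map_inv, show q (x : T) = q y from congrArg Subtype.val hxy, inv_mul_cancel]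
        exact Subtype.ext (inv_mul_eq_one.1 (hdisjb (mul_mem (inv_mem x.2) y.2) (h0 ▸ one_mem V)))
      · rintro ⟨_, y, hy, rfl⟩; exact ⟨⟨y, hy⟩, rfl⟩
    rw [← hcomp.card_mul, hinj, hΦTcard, hb, hTcard, show Nat.card V = p ^ n from hn,
      mul_right_comm, ← pow_add, add_comm] at h1
    exact Nat.pow_right_injective hp.out.two_le (Nat.eq_of_mul_eq_mul_right Nat.card_pos h1)
  have hn0 : 0 < n := by
    rw [Nat.pos_iff_ne_zero]
    rintro rfl
    have h1 : Φ = U := Subgroup.eq_of_le_of_card_ge hΦU
      (le_of_eq (by rw [ha, hb, ← hbn, add_zero]))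
    have h2 : frattini U = ⊤ := by
      rw [← Subgroup.map_subtype_inj, ← MonoidHom.range_eq_map, Subgroup.range_subtype]
      exact h1
    haveI : Nontrivial U := (Subgroup.nontrivial_iff_ne_bot U).2 hUne
    exact CfsgLib.PGroups.frattini_ne_top h2
  have hsolvT : Group.IsSolvable (T ⧸ ΦT) :=
    haveI : Group.IsSolvable T := Group.isSolvable_of_isSolvable_injective (f := T.subtype) T.subtype_injective
    Group.isSolvable_of_surjective (QuotientGroup.mk'_surjective ΦT)
  have hlin := card_classes_linear p hp2 hlift hsolvT V hVexp hidx hself Hb hcomp hn hn0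
  calc Nat.card (ConjClasses X) ≤ T.index * Nat.card (ConjClasses T) := card_classes_le_index_mul T
    _ ≤ p ^ (d - a) * (p ^ b * (3 ^ (n - 1) * p ^ n)) := by
        rw [hTi]
        refine Nat.mul_le_mul_left _ ((CfsgLib.SolvClasses.card_le_mul_quotient ΦT).trans
          (Nat.mul_le_mul ?_ hlin))
        rw [← hb, ← hΦTcard]
        exact Nat.card_le_card_of_surjective ConjClasses.mk ConjClasses.mk_surjective
    _ = 3 ^ (n - 1) * p ^ d := by
        rw [show d = (d - a) + (b + n) by omega, pow_add, pow_add]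
        rw [show (d - a) + (b + n) - a = d - a by omega]
        ring
    _ ≤ 3 ^ (d - 1) * p ^ d :=
        Nat.mul_le_mul_right _ (Nat.pow_le_pow_right (by norm_num) (by omega))

end CfsgLib.BlockSolv
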