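import Mathlib.LinearAlgebra.Dual.Basis
import Mathlib.LinearAlgebra.Projection
import Mathlib.LinearAlgebra.FiniteDimensional.Basic
import Mathlib.RepresentationTheory.Basic
import Mathlib.Data.ZMod.Basic
import Mathlib.Tactic.LinearCombination

/-!
# Invariant forms of vector stabilisers: gluing

`HasRealVec ρ`: some vector has a stabiliser preserving a nondegenerate bilinear form.
-/

set_option autoImplicit false
set_option linter.unusedSectionVars false

namespace CfsgLib.BlockSolv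

universe u v

variable {k : Type*} [Field k] {V : Type v} [AddCommGroup V] [Module k V] [FiniteDimensional k V]
  {F : Type u} [Group F]

/-- A bilinear form with trivial left kernel. -/
def Nondeg (B : V →ₗ[k] V →ₗ[k] k) : Prop := ∀ x, (∀ y, B x y = 0) → x = 0

/-- Some vector has a stabiliser preserving a nondegenerate bilinear form. -/
def HasRealVec (ρ : Representation k F V) : Prop :=
  ∃ (v : V) (B : V →ₗ[k] V →ₗ[k] k), Nondeg B ∧
    ∀ g : F, ρ g v = v → ∀ x y, B (ρ g x) (ρ g y) = B x y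

theorem exists_nondeg (W : Type*) [AddCommGroup W] [Module k W] [FiniteDimensional k W] :
    ∃ B : W →ₗ[k] W →ₗ[k] k, ∀ x, (∀ y, B x y = 0) → x = 0 := by
  classical
  let b := Module.Free.chooseBasis k W
  exact ⟨b.toDual, fun x hx => b.toDual_injective (by rw [map_zero]; exact LinearMap.ext hx)⟩

/-- Gluing along an idempotent. -/
theorem nondeg_glue {e : Module.End k V} (he : ∀ x, e (e x) = e x)
    (B₁ : ↥(LinearMap.range e) →ₗ[k] ↥(LinearMap.range e) →ₗ[k] k)
    (B₂ : ↥(LinearMap.ker e) →ₗ[k] ↥(LinearMap.ker e) →ₗ[k] k)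
    (h₁ : ∀ x, (∀ y, B₁ x y = 0) → x = 0) (h₂ : ∀ x, (∀ y, B₂ x y = 0) → x = 0) :
    ∃ B : V →ₗ[k] V →ₗ[k] k, Nondeg B ∧ ∀ g : Module.End k V, ∀ hg : (∀ x, g (e x) = e (g x)),
      (∀ x y : ↥(LinearMap.range e),
        B₁ ⟨g x, by obtain ⟨z, hz⟩ := x.2; exact ⟨g z, by rw [← hg z, hz]⟩⟩
          ⟨g y, by obtain ⟨z, hz⟩ := y.2; exact ⟨g z, by rw [← hg z, hz]⟩⟩ = B₁ x y) →
      (∀ x y : ↥(LinearMap.ker e),
        B₂ ⟨g x, by rw [LinearMap.mem_ker, ← hg, LinearMap.mem_ker.mp x.2, map_zero]⟩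
          ⟨g y, by rw [LinearMap.mem_ker, ← hg, LinearMap.mem_ker.mp y.2, map_zero]⟩ = B₂ x y) →
      ∀ x y, B (g x) (g y) = B x y := by
  let P : V →ₗ[k] ↥(LinearMap.range e) := e.codRestrict _ (fun x => LinearMap.mem_range_self e x)
  let Q : V →ₗ[k] ↥(LinearMap.ker e) := (1 - e : Module.End k V).codRestrict _
    (fun x => by simp [he])
  refine ⟨B₁.compl₁₂ P P + B₂.compl₁₂ Q Q, fun x hx => ?_, fun g hg hg₁ hg₂ x y => ?_⟩
  · have hP : P x = 0 := h₁ _ fun y => by
      have := hx y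
      obtain ⟨z, hz⟩ := y.2
      have hQy : Q y = 0 := Subtype.ext (by simp [Q, ← hz, he])
      have hPy : P y = y := Subtype.ext (by simp [P, ← hz, he])
      simpa [hQy, hPy] using this
    have hQ : Q x = 0 := h₂ _ fun y => by
      have := hx y
      have hPy : P y = 0 := Subtype.ext (by simp [P])
      have hQy : Q y = y := Subtype.ext (by simp [Q])
      simpa [hPy, hQy] using this
    have h1 := congrArg Subtype.val hP
    have h2 := congrArg Subtype.val hQ
    simp [P, Q] at h1 h2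
    simpa [h1] using h2
  · have e1 := hg₁ (P x) (P y)
    have e2 := hg₂ (Q x) (Q y)
    simp only [LinearMap.add_apply, LinearMap.compl₁₂_apply]
    rw [← e1, ← e2]
    have hP : ∀ z, P (g z) = ⟨g (P z), ⟨g z, (hg z).symm⟩⟩ := fun z => Subtype.ext (hg z).symm
    have hQ : ∀ z, Q (g z) = ⟨g (Q z), by
        rw [LinearMap.mem_ker, ← hg, LinearMap.mem_ker.mp (Q z).2, map_zero]⟩ :=
      fun z => Subtype.ext (by simp [Q, hg])
    rw [hP, hP, hQ, hQ]

/-- Commuting involutions preserve a nondegenerate bilinear form. -/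
theorem exists_form_of_involutions (h2 : (2 : k) ≠ 0) : ∀ (d : ℕ) (V : Type v) [AddCommGroup V]
    [Module k V] [FiniteDimensional k V], Module.finrank k V = d → ∀ T : Set (Module.End k V),
    (∀ f ∈ T, ∀ x, f (f x) = x) → (∀ f ∈ T, ∀ g ∈ T, ∀ x, f (g x) = g (f x)) →
    ∃ B : V →ₗ[k] V →ₗ[k] k, Nondeg B ∧ ∀ f ∈ T, ∀ x y, B (f x) (f y) = B x y := by
  intro d
  induction d using Nat.strong_induction_on with
  | _ d ih =>
  intro V _ _ _ hd T hinv hcomm
  by_cases hsc : ∀ f ∈ T, ∃ c : k, ∀ x, f x = c • x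
  · obtain ⟨B, hB⟩ := exists_nondeg (k := k) V
    refine ⟨B, hB, fun f hf x y => ?_⟩
    obtain ⟨c, hc⟩ := hsc f hf
    calc B (f x) (f y) = B (c • c • x) y := by simp [hc, mul_assoc]
      _ = B x y := by rw [show c • c • x = x by rw [← hc x, ← hc]; exact hinv f hf x]
  push Not at hsc
  obtain ⟨f, hf, hfn⟩ := hsc
  let e : Module.End k V := (2 : k)⁻¹ • (1 + f)
  have heap : ∀ x, e x = (2 : k)⁻¹ • (x + f x) := fun x => rfl
  have he : ∀ x, e (e x) = e x := fun x => by
    rw [heap (e x), heap x, map_smul, map_add, hinv f hf, ← smul_add, add_comm (f x) x,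
      ← two_smul k (x + f x), smul_smul (2 : k)⁻¹ 2, inv_mul_cancel₀ h2, one_smul]
  have hge : ∀ g ∈ T, ∀ x, g (e x) = e (g x) := fun g hg x => by
    rw [heap, heap, map_smul, map_add, hcomm g hg f hf]
  have hsum : Module.finrank k ↥(LinearMap.range e) + Module.finrank k ↥(LinearMap.ker e) = d :=
    hd ▸ LinearMap.finrank_range_add_finrank_ker e
  have hr : 0 < Module.finrank k ↥(LinearMap.range e) := by
    rw [Nat.pos_iff_ne_zero, ne_eq, Submodule.finrank_eq_zero, LinearMap.range_eq_bot]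
    intro h0
    obtain ⟨x, hx⟩ := hfn (-1)
    refine hx ?_
    have := heap x
    rw [h0, LinearMap.zero_apply, eq_comm, smul_eq_zero, inv_eq_zero] at this
    rw [neg_one_smul]
    exact eq_neg_of_add_eq_zero_right (this.resolve_left h2)
  have hk : 0 < Module.finrank k ↥(LinearMap.ker e) := by
    rw [Nat.pos_iff_ne_zero, ne_eq, Submodule.finrank_eq_zero]
    intro h0
    obtain ⟨x, hx⟩ := hfn 1
    refine hx ?_
    have : e x = x := by
      have hm : e x - x ∈ LinearMap.ker e := by rw [LinearMap.mem_ker, map_sub, he, sub_self]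
      rwa [h0, Submodule.mem_bot, sub_eq_zero] at hm
    rw [heap, inv_smul_eq_iff₀ h2, two_smul] at this
    rw [one_smul]
    exact add_left_cancel this
  have rec1 : ∀ (W : Submodule k V) (hW : ∀ g ∈ T, ∀ w ∈ W, g w ∈ W), Module.finrank k W < d →
      ∃ B : W →ₗ[k] W →ₗ[k] k, Nondeg B ∧ ∀ g, ∀ hg : g ∈ T, ∀ x y : W,
        B ⟨g x, hW g hg x x.2⟩ ⟨g y, hW g hg y y.2⟩ = B x y := by
    intro W hW hlt
    obtain ⟨B, hB, hBi⟩ := ih _ hlt W rfl
      {h | ∃ g, ∃ hg : g ∈ T, h = g.restrict (hW g hg)}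
      (by rintro _ ⟨g, hg, rfl⟩ x; exact Subtype.ext (hinv g hg x))
      (by rintro _ ⟨g, hg, rfl⟩ _ ⟨g', hg', rfl⟩ x; exact Subtype.ext (hcomm g hg g' hg' x))
    exact ⟨B, hB, fun g hg x y => hBi _ ⟨g, hg, rfl⟩ x y⟩
  obtain ⟨B₁, hB₁, hi₁⟩ := rec1 (LinearMap.range e)
    (fun g hg w hw => by obtain ⟨z, rfl⟩ := hw; exact ⟨g z, (hge g hg z).symm⟩) (by omega)
  obtain ⟨B₂, hB₂, hi₂⟩ := rec1 (LinearMap.ker e)
    (fun g hg w hw => by rw [LinearMap.mem_ker] at hw ⊢; rw [← hge g hg, hw, map_zero]) (by omega)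
  obtain ⟨B, hB, hBi⟩ := nondeg_glue he B₁ B₂ hB₁ hB₂
  exact ⟨B, hB, fun g hg => hBi g (hge g hg) (hi₁ g hg) (hi₂ g hg)⟩

/-- Gluing along a family of orthogonal idempotents moved transitively. -/
theorem hasRealVec_blocks (ρ : Representation k F V) {ι : Type*} [Fintype ι] [DecidableEq ι]
    (e : ι → Module.End k V) (horth : ∀ i j x, e i (e j x) = if i = j then e j x else 0)
    (hsum : ∀ x, ∑ i, e i x = x) (hne : ∀ i, ∃ x, e i x ≠ 0) (i₀ : ι) (act : F → ι → ι)
    (hact : ∀ g i x, ρ g (e i x) = e (act g i) (ρ g x))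
    (gi : ι → F) (hgi : ∀ i x, ρ (gi i) (e i₀ x) = e i (ρ (gi i) x))
    (v₀ : V) (hv₀ : e i₀ v₀ = v₀)
    (B₀ : ↥(LinearMap.range (e i₀)) →ₗ[k] ↥(LinearMap.range (e i₀)) →ₗ[k] k)
    (hB₀ : ∀ x, (∀ y, B₀ x y = 0) → x = 0)
    (hinv : ∀ h : F, ∀ hc : (∀ x, ρ h (e i₀ x) = e i₀ (ρ h x)), ρ h v₀ = v₀ →
      ∀ x y : ↥(LinearMap.range (e i₀)),
        B₀ ⟨ρ h x, by obtain ⟨z, hz⟩ := x.2; exact ⟨ρ h z, by rw [← hc z, hz]⟩⟩
          ⟨ρ h y, by obtain ⟨z, hz⟩ := y.2; exact ⟨ρ h z, by rw [← hc z, hz]⟩⟩ = B₀ x y) :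
    HasRealVec ρ := by
  classical
  have hii : ∀ i x, e i (e i x) = e i x := fun i x => by rw [horth, if_pos rfl]
  let L : ι → (V →ₗ[k] ↥(LinearMap.range (e i₀))) := fun i =>
    ((e i₀).comp (ρ (gi i)⁻¹)).codRestrict _ (fun x => LinearMap.mem_range_self _ _)
  have hL : ∀ i x, (L i x : V) = ρ (gi i)⁻¹ (e i x) := fun i x => by
    apply ρ.apply_bijective (gi i) |>.1
    show ρ (gi i) (e i₀ (ρ (gi i)⁻¹ x)) = _
    rw [hgi, Representation.self_inv_apply, Representation.self_inv_apply]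
  have hLu : ∀ i j (u : ↥(LinearMap.range (e i₀))), L i (ρ (gi j) u) = if i = j then u else 0 := by
    intro i j u
    obtain ⟨z, hz⟩ := u.2
    apply Subtype.ext
    rw [hL, ← hz, hgi, horth]
    split_ifs with h
    · rw [h, ← hgi, Representation.inv_self_apply, hz]
    · rw [map_zero]; rfl
  refine ⟨∑ i, ρ (gi i) v₀, ∑ i, B₀.compl₁₂ (L i) (L i), fun x hx => ?_, fun g hg x y => ?_⟩
  · have hzero : ∀ j, L j x = 0 := fun j => hB₀ _ fun u => by
      have := hx (ρ (gi j) u)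
      simp only [LinearMap.sum_apply, LinearMap.compl₁₂_apply, hLu] at this
      rw [Finset.sum_eq_single_of_mem j (Finset.mem_univ j) (fun i _ hi => by simp [hi])] at this
      simpa using this
    rw [← hsum x]
    refine Finset.sum_eq_zero fun j _ => (ρ.apply_bijective (gi j)⁻¹).1 ?_
    rw [← hL, hzero, map_zero]
    rfl
  · have hev : ∀ i, e i (∑ j, ρ (gi j) v₀) = ρ (gi i) v₀ := fun i => by
      rw [map_sum, Finset.sum_eq_single_of_mem i (Finset.mem_univ i)]
      · rw [← hgi, hv₀]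
      · intro j _ hj
        rw [← hv₀, hgi, horth, if_neg (Ne.symm hj)]
    have hmoveL : ∀ i x, (L (act g i) (ρ g x) : V) =
        ρ ((gi (act g i))⁻¹ * g * gi i) (L i x) := fun i x => by
      rw [hL, hL, ← hact, map_mul, map_mul, Module.End.mul_apply, Module.End.mul_apply,
        Representation.self_inv_apply]
    set h : ι → F := fun i => (gi (act g i))⁻¹ * g * gi i with hh
    have hhc : ∀ i x, ρ (h i) (e i₀ x) = e i₀ (ρ (h i) x) := fun i x => by
      apply ρ.apply_bijective (gi (act g i)) |>.1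
      rw [hgi, hh]
      simp only [map_mul, Module.End.mul_apply, Representation.self_inv_apply]
      rw [hgi, hact]
    have hhv : ∀ i, ρ (h i) v₀ = v₀ := fun i => by
      apply ρ.apply_bijective (gi (act g i)) |>.1
      rw [hh]
      simp only [map_mul, Module.End.mul_apply, Representation.self_inv_apply]
      rw [← hev i, hact, hg, hev]
    have hinj : Function.Injective (act g) := fun i j hij => by
      by_contra hij'
      have hz : ∀ z, e i z = 0 := fun z => by
        apply ρ.apply_bijective g |>.1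
        rw [map_zero, ← hii i z, hact, hij, ← hact, horth, if_neg (Ne.symm hij'), map_zero]
      obtain ⟨z, hz'⟩ := hne i
      exact hz' (hz z)
    have hσ : Function.Bijective (act g) := Finite.injective_iff_bijective.mp hinj
    simp only [LinearMap.sum_apply, LinearMap.compl₁₂_apply]
    refine (hσ.sum_comp (fun i => B₀ (L i (ρ g x)) (L i (ρ g y)))).symm.trans
      (Finset.sum_congr rfl fun i _ => ?_)
    rw [show L (act g i) (ρ g x) = ⟨ρ (h i) (L i x), by
        obtain ⟨z, hz⟩ := (L i x).2; exact ⟨ρ (h i) z, by rw [← hhc i z, hz]⟩⟩ from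
      Subtype.ext (hmoveL i x), show L (act g i) (ρ g y) = ⟨ρ (h i) (L i y), by
        obtain ⟨z, hz⟩ := (L i y).2; exact ⟨ρ (h i) z, by rw [← hhc i z, hz]⟩⟩ from
      Subtype.ext (hmoveL i y)]
    exact hinv (h i) (hhc i) (hhv i) _ _

end CfsgLib.BlockSolv
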