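import Cfsg.Agent.Lib.BlockSolv.RealVec
import Cfsg.Agent.Lib.CharsMore.Gow.Main
import Mathlib.Algebra.Module.ZMod

/-!
# The k(GV) bound for a nilpotent complement
-/

set_option autoImplicit false
set_option linter.unusedSectionVars false
set_option linter.style.haveILetI false

namespace CfsgLib.BlockSolv

universe u

/-- `k(GV) ≤ |V|` for nilpotent `G`, `p` odd. -/
theorem card_classes_le_of_nilpotent {X : Type u} [Group X] [Finite X] (p : ℕ) [hp : Fact p.Prime]
    (hp2 : p ≠ 2) (V : Subgroup X) [V.Normal] (hVexp : ∀ v ∈ V, v ^ p = 1)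
    (hidx : ¬ p ∣ V.index) (hself : Subgroup.centralizer (V : Set X) = V) (G : Subgroup X)
    (hGV : Subgroup.IsComplement' V G) [Group.IsNilpotent G] :
    Nat.card (ConjClasses X) ≤ Nat.card V := by
  classical
  haveI : IsMulCommutative V := ⟨⟨fun a b => Subtype.ext (by
    have hb : (b : X) ∈ Subgroup.centralizer (V : Set X) := by rw [hself]; exact b.2
    exact Subgroup.mem_centralizer_iff.1 hb a a.2)⟩⟩
  letI : AddCommGroup (Additive V) :=
    { (inferInstance : AddGroup (Additive V)) with
      add_comm := fun a b => Additive.toMul.injective (mul_comm' (Additive.toMul a) (Additive.toMul b)) }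
  have hexpA : ∀ x : Additive V, p • x = 0 := fun x =>
    Additive.toMul.injective (Subtype.ext (hVexp _ (Additive.toMul x).2))
  letI := AddCommGroup.zmodModule (n := p) (G := Additive V) hexpA
  haveI : Module.Finite (ZMod p) (Additive V) := Module.Finite.of_finite
  let f : G → X → X := fun g x => (g : X) * x * (g : X)⁻¹
  have hf : ∀ g : G, ∀ x ∈ V, f g x ∈ V := fun g x hx => Subgroup.Normal.conj_mem inferInstance x hx g
  let act : G → Additive V →+ Additive V := fun g =>
    { toFun := fun x => Additive.ofMul ⟨f g (Additive.toMul x : V), hf g _ (Additive.toMul x).2⟩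
      map_zero' := by
        apply Additive.toMul.injective
        exact Subtype.ext (by simp [f])
      map_add' := fun x y => by
        apply Additive.toMul.injective
        exact Subtype.ext (by simp [f, mul_assoc]) }
  let L : G → Module.End (ZMod p) (Additive V) := fun g => (act g).toZModLinearMap p
  have hone : L 1 = 1 := LinearMap.ext fun x => by
    apply Additive.toMul.injective
    exact Subtype.ext (by simp [L, act, f])
  have hLmul : ∀ g h : G, L (g * h) = L g * L h := fun g h => LinearMap.ext fun x => by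
    apply Additive.toMul.injective
    exact Subtype.ext (by simp [L, act, f, mul_assoc])
  let ρ : Representation (ZMod p) G (Additive V) :=
    { toFun := L, map_one' := hone, map_mul' := hLmul }
  have hval : ∀ (g : G) (x : Additive V),
      ((Additive.toMul (ρ g x) : V) : X) = (g : X) * (Additive.toMul x : V) * (g : X)⁻¹ :=
    fun g x => rfl
  have hcard : (Nat.card G : ZMod p) ≠ 0 := by
    rw [ne_eq, ZMod.natCast_eq_zero_iff, ← hGV.symm.index_eq_card]
    exact hidx
  have h2 : (2 : ZMod p) ≠ 0 := by
    intro h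
    have : ((2 : ℕ) : ZMod p) = 0 := by exact_mod_cast h
    rw [ZMod.natCast_eq_zero_iff] at this
    exact hp2 ((Nat.prime_dvd_prime_iff_eq hp.out Nat.prime_two).1 this)
  obtain ⟨v, B, hB, hBi⟩ := hasRealVec h2 _ (Additive V) G rfl hcard ρ
  let mkV : X → Additive V := fun x => if h : x ∈ V then Additive.ofMul (⟨x, h⟩ : V) else 0
  have hmk : ∀ {x} (h : x ∈ V), mkV x = Additive.ofMul (⟨x, h⟩ : V) := fun h => dif_pos h
  let β : X → X → ZMod p := fun x y => B (mkV x) (mkV y)
  have hmul : ∀ a ∈ V, ∀ b ∈ V, mkV (a * b) = mkV a + mkV b := fun a ha b hb => by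
    rw [hmk (mul_mem ha hb), hmk ha, hmk hb]; rfl
  have hconj : ∀ g : G, ∀ a ∈ V, mkV ((g : X) * a * (g : X)⁻¹) = ρ g (mkV a) := fun g a ha => by
    rw [hmk (hf g a ha), hmk ha]; rfl
  refine CfsgLib.CharsMore.Gow.card_classes_le p V hVexp hidx hself G hGV
    ((Additive.toMul v : V) : X) (Additive.toMul v).2 V le_rfl
    (fun h hh _ u hu => Subgroup.Normal.conj_mem inferInstance u hu h) ?_ β
    (fun a ha b hb w _ => by simp [β, hmul a ha b hb])
    (fun a _ w hw w' hw' => by simp [β, hmul w hw w' hw']) ?_ ?_
  · intro h hh _ hfix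
    have hc : h ∈ Subgroup.centralizer (V : Set X) := by
      rw [Subgroup.mem_centralizer_iff]
      intro a ha
      exact (mul_inv_eq_iff_eq_mul.1 (hfix a ha)).symm
    rw [hself] at hc
    exact (Subgroup.disjoint_def.1 hGV.disjoint) hc hh
  · intro h hh hv a ha b hb
    show B (mkV (h * a * h⁻¹)) (mkV (h * b * h⁻¹)) = _
    rw [hconj ⟨h, hh⟩ a ha, hconj ⟨h, hh⟩ b hb]
    refine hBi ⟨h, hh⟩ ?_ _ _
    apply Additive.toMul.injective
    exact Subtype.ext ((hval _ _).trans hv)
  · intro a ha hzero
    have h0 := hB (mkV a) fun y => by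
      have := hzero (Additive.toMul y : V) (Additive.toMul y).2
      rwa [show β a ((Additive.toMul y : V) : X) = B (mkV a) y from
        congrArg (B (mkV a)) (hmk (Additive.toMul y).2)] at this
    rw [hmk ha] at h0
    exact congrArg Subtype.val (Additive.ofMul.injective (h0.trans ofMul_one.symm))

end CfsgLib.BlockSolv
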