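import Cfsg.Agent.Lib.CharsMore.Clifford
import Cfsg.Agent.Lib.Chars.Degree

/-!
# Characters over an invariant character of a normal subgroup are at most `k(G/N)`
-/

set_option autoImplicit false
set_option linter.unusedSectionVars false
set_option linter.style.haveILetI false
set_option maxHeartbeats 1000000

namespace CfsgLib.BlockSolv

open Cfsg CfsgLib
open scoped ComplexConjugate

universe u v

variable {G : Type u} [Group G]

/-- Schur: an operator commuting with an irreducible representation is a scalar. -/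
theorem exists_scalar_of_commute {V : Type v} [AddCommGroup V] [Module ℂ V] [FiniteDimensional ℂ V]
    (ρ : Representation ℂ G V) [ρ.IsIrreducible] (T : Module.End ℂ V)
    (hT : ∀ g x, T (ρ g x) = ρ g (T x)) : ∃ c : ℂ, T = c • 1 := by
  let F : ρ.IntertwiningMap ρ := LinearMap.intertwiningMap_of_isIntertwiningMap ρ ρ T hT
  obtain ⟨c, hc⟩ :=
    (Representation.IsIrreducible.algebraMap_intertwiningMap_bijective_of_isAlgClosed (ρ := ρ)).2 F
  refine ⟨c, LinearMap.ext fun x => ?_⟩
  have h2 : F x = (algebraMap ℂ (ρ.IntertwiningMap ρ) c) x := by rw [hc]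
  simpa [F] using h2

variable [Fintype G]

/-- Fong: characters over an invariant character. -/
theorem ncard_over_le (N : Subgroup G) [N.Normal] [Fintype N] (θ : IrrCharacter N)
    (hinv : ∀ (g : G) (n : N), (θ : N → ℂ) (CharsMore.conjBy N g n) = (θ : N → ℂ) n) :
    Set.ncard {χ : IrrCharacter G | classInner (fun n : N => (χ : G → ℂ) n) (θ : N → ℂ) ≠ 0} ≤
      Nat.card (ConjClasses (G ⧸ N)) := by
  classical
  haveI := Chars.irrFintype G
  obtain ⟨d, π, hπ, hθ⟩ := θ.2
  haveI := hπ
  set S := {χ : IrrCharacter G | classInner (fun n : N => (χ : G → ℂ) n) (θ : N → ℂ) ≠ 0}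
  set d' : ℂ := (θ : N → ℂ) 1 with hd'
  let A : IrrCharacter G → G → Module.End ℂ (Fin d → ℂ) := fun χ g =>
    (d' / (Nat.card N : ℂ)) • ∑ m : N, (χ : G → ℂ) (g * m) • π m⁻¹
  -- values on a coset are traces
  have hval : ∀ χ ∈ S, ∀ (g : G) (n : N),
      (χ : G → ℂ) (g * n) = LinearMap.trace ℂ (Fin d → ℂ) (A χ g * π n) := by
    intro χ hχ g n
    obtain ⟨r, ρ, hρ, hχρ⟩ := χ.2
    haveI := hρ
    let E : Module.End ℂ (Fin r → ℂ) :=
      (d' / (Nat.card N : ℂ)) • ∑ m : N, conj ((θ : N → ℂ) m) • ρ m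
    have hEg : ∀ h x, E (ρ h x) = ρ h (E x) := by
      intro h x
      simp only [E, LinearMap.smul_apply, LinearMap.sum_apply, map_smul, map_sum]
      congr 1
      refine (Fintype.sum_equiv (Equiv.ofBijective (CharsMore.conjBy N h) ⟨fun a b e => Subtype.ext
        (by simpa [CharsMore.coe_conjBy] using congrArg Subtype.val e), CharsMore.conjBy_surjective N h⟩) _ _ fun m => ?_).symm
      show conj ((θ : N → ℂ) m) • ρ h (ρ (m : G) x) = conj ((θ : N → ℂ) (CharsMore.conjBy N h m)) •
        ρ ((CharsMore.conjBy N h m : N) : G) (ρ h x)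
      rw [hinv]
      congr 1
      rw [← Module.End.mul_apply, ← Module.End.mul_apply, ← map_mul, ← map_mul]
      simp [CharsMore.coe_conjBy]
    obtain ⟨c, hc⟩ := exists_scalar_of_commute ρ E hEg
    have hres := CharsMore.restrict_eq_mul_of_invariant N χ.2 θ.2 hinv hχ
    set e := classInner (fun n : N => (χ : G → ℂ) n) (θ : N → ℂ) with he
    have hN0 : (Nat.card N : ℂ) ≠ 0 := Chars.card_ne_zero N
    have hinner : ∑ m : N, conj ((θ : N → ℂ) m) * (θ : N → ℂ) m = (Nat.card N : ℂ) := by
      have h1 := Chars.inner_irr_self θ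
      rw [Chars.inner_def, inv_mul_eq_one₀ hN0] at h1
      rw [h1]
      exact Finset.sum_congr rfl fun m _ => mul_comm _ _
    have hr : (r : ℂ) = e * d' := by
      have h1 := hres 1
      rw [OneMemClass.coe_one, ← hχρ, Representation.char_one, Module.finrank_fin_fun] at h1
      exact h1
    have hc1 : c = 1 := by
      have h1 : LinearMap.trace ℂ (Fin r → ℂ) E = c * r := by
        rw [hc, map_smul, LinearMap.trace_one, Module.finrank_fin_fun, smul_eq_mul]
      have h2 : LinearMap.trace ℂ (Fin r → ℂ) E = (r : ℂ) := by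
        simp only [E, map_smul, map_sum, smul_eq_mul]
        rw [hr]
        have h3 : ∀ m : N, LinearMap.trace ℂ (Fin r → ℂ) (ρ m) = e * (θ : N → ℂ) m := fun m => by
          rw [← hres m, ← hχρ]; rfl
        simp only [h3, ← mul_assoc, mul_comm _ e]
        simp only [mul_assoc]
        rw [← Finset.mul_sum, hinner]
        field_simp
      have hr0 : (r : ℂ) ≠ 0 := by
        have h3 := Chars.irr_degree_ne_zero χ.2
        rwa [← hχρ, Representation.char_one, Module.finrank_fin_fun] at h3
      exact mul_right_cancel₀ hr0 (h1.symm.trans (h2.trans (one_mul _).symm))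
    have hmain : (χ : G → ℂ) (g * n) =
        (d' / (Nat.card N : ℂ)) * ∑ m : N, conj ((θ : N → ℂ) m) * (χ : G → ℂ) (g * n * m) := by
      have hchar : ∀ x : G, (χ : G → ℂ) x = LinearMap.trace ℂ (Fin r → ℂ) (ρ x) := fun x => by
        rw [← hχρ]; rfl
      rw [hc1, one_smul] at hc
      calc (χ : G → ℂ) (g * n) = LinearMap.trace ℂ (Fin r → ℂ) (ρ (g * n) * E) := by
            rw [hc, mul_one, hchar]
        _ = _ := by
            simp only [E, mul_smul_comm, Finset.mul_sum, map_smul, map_sum, smul_eq_mul, hchar,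
              map_mul, mul_assoc]
    rw [hmain]
    simp only [A, smul_mul_assoc, Finset.sum_mul, map_smul, map_sum, smul_eq_mul]
    congr 1
    refine Fintype.sum_equiv (Equiv.mulLeft n) _ _ fun m => ?_
    rw [Equiv.coe_mulLeft, Subgroup.coe_mul, ← mul_assoc, mul_comm, ← map_mul π]
    congr 1
    rw [← Chars.char_inv (Chars.isCharacter_of_irr θ.2), ← hθ]
    show LinearMap.trace ℂ _ (π m⁻¹) = LinearMap.trace ℂ _ (π ((n * m)⁻¹ * n))
    rw [mul_inv_rev, inv_mul_cancel_right]
  -- the twisted intertwiners on one coset form a line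
  let τ : G → N → N := fun g m => CharsMore.conjBy N g⁻¹ m
  let L : G → Submodule ℂ (Module.End ℂ (Fin d → ℂ)) := fun g =>
    { carrier := {T | ∀ m : N, T * π (τ g m) = π m * T}
      add_mem' := fun {a b} ha hb m => by rw [add_mul, mul_add, ha m, hb m]
      zero_mem' := fun m => by simp
      smul_mem' := fun c a ha m => by rw [smul_mul_assoc, mul_smul_comm, ha m] }
  have hL : ∀ g, Module.finrank ℂ (L g) ≤ 1 := by
    intro g
    rcases subsingleton_or_nontrivial (L g) with h | h
    · rw [Module.finrank_zero_of_subsingleton]; exact Nat.zero_le _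
    obtain ⟨⟨T₀, hT₀⟩, hne⟩ := exists_ne (0 : L g)
    have hT₀0 : T₀ ≠ 0 := fun h => hne (Subtype.ext h)
    have hτ : Function.Surjective (τ g) := CharsMore.conjBy_surjective N g⁻¹
    have hker : LinearMap.ker T₀ = ⊥ := by
      rcases ((Chars.isIrreducible_iff π).1 hπ).2 (LinearMap.ker T₀) (fun m x hx => by
        obtain ⟨m', rfl⟩ := hτ m
        rw [LinearMap.mem_ker] at hx ⊢
        rw [← Module.End.mul_apply, hT₀ m', Module.End.mul_apply, hx, map_zero]) with h | h
      · exact h
      · exact absurd (LinearMap.ker_eq_top.1 h) hT₀0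
    let e₀ := LinearEquiv.ofInjectiveEndo T₀ (LinearMap.ker_eq_bot.1 hker)
    refine finrank_le_one (⟨T₀, hT₀⟩ : L g) fun ⟨T, hT⟩ => ?_
    obtain ⟨c, hc⟩ := exists_scalar_of_commute π (T * (e₀.symm : Module.End ℂ (Fin d → ℂ)))
      fun m x => by
        obtain ⟨y, rfl⟩ := e₀.surjective x
        have h1 : π m (e₀ y) = e₀ (π (τ g m) y) := (LinearMap.congr_fun (hT₀ m) y).symm
        rw [h1]
        show T (e₀.symm (e₀ (π (τ g m) y))) = π m (T (e₀.symm (e₀ y)))
        rw [LinearEquiv.symm_apply_apply, LinearEquiv.symm_apply_apply]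
        exact LinearMap.congr_fun (hT m) y
    refine ⟨c, Subtype.ext (LinearMap.ext fun x => ?_)⟩
    have h1 := LinearMap.congr_fun hc (e₀ x)
    change T (e₀.symm (e₀ x)) = c • e₀ x at h1
    rw [LinearEquiv.symm_apply_apply] at h1
    exact h1.symm
  have hAL : ∀ χ : IrrCharacter G, ∀ g, A χ g ∈ L g := by
    intro χ g m
    simp only [A, smul_mul_assoc, Finset.sum_mul, Finset.mul_sum, mul_smul_comm]
    congr 1
    refine Fintype.sum_equiv ((Equiv.mulLeft (τ g m)⁻¹).trans (Equiv.mulRight m)) _ _ fun x => ?_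
    rw [Equiv.trans_apply, Equiv.coe_mulLeft, Equiv.coe_mulRight, ← map_mul, ← map_mul]
    congr 1
    · have h1 := Chars.isClassFunction_irr χ (g * x) (m : G)⁻¹
      rw [← h1]
      congr 1
      simp [τ, CharsMore.coe_conjBy, mul_assoc]
    · congr 1
      group
  -- linear algebra
  letI : Fintype S := Fintype.ofFinite S
  letI : Fintype (ConjClasses (G ⧸ N)) := Fintype.ofFinite _
  have hrs : Function.Surjective fun g : G => ConjClasses.mk (g : G ⧸ N) := fun C => by
    obtain ⟨q, rfl⟩ := ConjClasses.exists_rep C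
    obtain ⟨g, rfl⟩ := QuotientGroup.mk_surjective q
    exact ⟨g, rfl⟩
  let rep : ConjClasses (G ⧸ N) → G := Function.surjInv hrs
  let Φ : (S → ℂ) →ₗ[ℂ] (∀ C : ConjClasses (G ⧸ N), L (rep C)) :=
    { toFun := fun c C => ∑ χ : S, c χ • ⟨A χ.1 (rep C), hAL χ.1 (rep C)⟩
      map_add' := fun a b => funext fun C => by
        rw [Pi.add_apply, ← Finset.sum_add_distrib]
        exact Finset.sum_congr rfl fun χ _ => add_smul _ _ _
      map_smul' := fun a b => funext fun C => by simp [Finset.smul_sum, smul_smul] }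
  have hΦ : Function.Injective Φ := by
    refine (injective_iff_map_eq_zero Φ).2 fun c hc => ?_
    have hzero : ∀ x : G, ∑ χ : S, c χ * ((χ.1 : IrrCharacter G) : G → ℂ) x = 0 := by
      intro x
      obtain ⟨h, hh⟩ : ∃ h : G ⧸ N,
          h * (x : G ⧸ N) * h⁻¹ = (rep (ConjClasses.mk (x : G ⧸ N)) : G ⧸ N) := by
        refine isConj_iff.1 (ConjClasses.mk_eq_mk_iff_isConj.1 ?_)
        exact (Function.surjInv_eq hrs (ConjClasses.mk (x : G ⧸ N))).symm
      obtain ⟨h, rfl⟩ := QuotientGroup.mk_surjective h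
      set g := rep (ConjClasses.mk (x : G ⧸ N)) with hg
      have hmem : g⁻¹ * (h * x * h⁻¹) ∈ N := QuotientGroup.eq.1 hh.symm
      have hx : h * x * h⁻¹ = g * ((⟨_, hmem⟩ : N) : G) := by simp
      have h1 := congrArg Subtype.val (congrFun hc (ConjClasses.mk (x : G ⧸ N)))
      change ((∑ χ : S, c χ • (⟨A χ.1 g, hAL χ.1 g⟩ : L g) : L g) :
        Module.End ℂ (Fin d → ℂ)) = 0 at h1
      rw [Submodule.coe_sum] at h1
      have h2 := congrArg (fun T : Module.End ℂ (Fin d → ℂ) =>
        LinearMap.trace ℂ (Fin d → ℂ) (T * π ⟨_, hmem⟩)) h1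
      simp only [Submodule.coe_smul, Finset.sum_mul, smul_mul_assoc, map_sum, map_smul, zero_mul,
        map_zero, smul_eq_mul] at h2
      rw [← h2]
      refine Finset.sum_congr rfl fun χ _ => ?_
      rw [← hval χ.1 χ.2, ← hx, Chars.isClassFunction_irr χ.1 x h]
    have hli := Fintype.linearIndependent_iff.1
      ((Chars.linearIndependent_irr (G := G)).comp (fun χ : S => χ.1) Subtype.val_injective) c
      (funext fun x => by simpa using hzero x)
    exact funext hli
  haveI : ∀ C, Module.Free ℂ (L (rep C)) := fun C =>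
    @Module.Free.of_divisionRing ℂ (↥(L (rep C))) _ (L (rep C)).addCommGroup (L (rep C)).module
  have h1 := LinearMap.finrank_le_finrank_of_injective hΦ
  rw [Module.finrank_fintype_fun_eq_card, Module.finrank_pi_fintype] at h1
  rw [← Nat.card_coe_set_eq, Nat.card_eq_fintype_card]
  refine h1.trans ((Finset.sum_le_sum fun C _ => hL (rep C)).trans ?_)
  rw [Finset.sum_const, Finset.card_univ, smul_eq_mul, mul_one, Nat.card_eq_fintype_card]

end CfsgLib.BlockSolv
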