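import Cfsg.Agent.Lib.BlockSolv.ClassBound
import Cfsg.Agent.Lib.Modular.DefectZeroSimple
import Cfsg.Agent.Lib.Modular.SimpleCount

/-!
# Complex representations from coprime linear groups over the field with `p` elements
-/

set_option autoImplicit false
set_option linter.unusedSectionVars false
set_option linter.style.haveILetI false
set_option maxHeartbeats 1000000

namespace CfsgLib.BlockSolv

open Cfsg CfsgLib.Modular CfsgLib.BrauerChar CfsgLib.BlockOrth

universe u

variable {p : ℕ} [hp : Fact p.Prime] {M : Ideal AlgInt} [M.IsPrime] {V : ValuationSubring ℂ}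

/-- Unit numbers with the largest possible sum are all one. -/
theorem eq_one_of_sum (s : Multiset ℂ) (hs : ∀ z ∈ s, ‖z‖ = 1) (h : s.sum = (Multiset.card s : ℂ)) :
    ∀ z ∈ s, z = 1 := by
  have hle : ∀ t : Multiset ℂ, (∀ z ∈ t, ‖z‖ = 1) → t.sum.re ≤ Multiset.card t := by
    intro t ht
    induction t using Multiset.induction_on with
    | empty => simp
    | cons a t ih =>
      have h1 := ih fun z hz => ht z (Multiset.mem_cons_of_mem hz)
      have h2 : a.re ≤ 1 := (Complex.re_le_norm a).trans (ht a (Multiset.mem_cons_self _ _)).le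
      simp only [Multiset.sum_cons, Complex.add_re, Multiset.card_cons, Nat.cast_add, Nat.cast_one]
      linarith
  intro z hz
  obtain ⟨t, rfl⟩ := Multiset.exists_cons_of_mem hz
  have h1 := hle t fun w hw => hs w (Multiset.mem_cons_of_mem hw)
  have h2 : z.re ≤ 1 := (Complex.re_le_norm z).trans (hs z hz).le
  have h3 := congrArg Complex.re h
  simp only [Multiset.sum_cons, Complex.add_re, Multiset.card_cons, Nat.cast_add, Nat.cast_one,
    Complex.one_re, Complex.natCast_re] at h3
  have hre : z.re = 1 := by linarith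
  have him : z.im = 0 := by
    have h4 : Complex.normSq z = 1 := by rw [Complex.normSq_eq_norm_sq, hs z hz, one_pow]
    rw [Complex.normSq_apply, hre] at h4
    nlinarith
  exact Complex.ext hre (by simpa using him)

/-- The Brauer character of a group of order prime to `p` is an ordinary character. -/
theorem isCharacter_bch {H : Type u} [Group H] [Finite H] [CharP (Res V) p]
    (hV : IsPlaceOver p M V) (hpM : (p : AlgInt) ∈ M) (hH : ¬ p ∣ Nat.card H) {n : ℕ}
    (σ : Representation (Res V) H (Fin n → Res V)) : IsCharacter H (bch p σ) := by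
  classical
  letI := Fintype.ofFinite H
  haveI := Chars.irrFintype H
  haveI : Fintype (ConjClasses H) := Fintype.ofFinite _
  have hzero : (Nat.card H).factorization p = 0 := Nat.factorization_eq_zero_of_not_dvd hH
  -- the irreducible Brauer characters are the irreducible characters
  let T := (finite_simpleChars (p := p) (V := V) (G := H)).toFinset
  have hsub : Finset.univ.image (fun χ : IrrCharacter H => (χ : H → ℂ)) ⊆ T := by
    intro φ hφ
    obtain ⟨χ, -, rfl⟩ := Finset.mem_image.1 hφ
    obtain ⟨s, hs, hsχ⟩ := exists_simple_of_defect_zero hV hpM χ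
      (by rw [hzero]; exact Nat.le_zero.1 (hzero ▸ degVal_le χ))
    exact (Set.Finite.mem_toFinset _).2 ⟨s, hs, hsχ⟩
  have hcard : T.card ≤ (Finset.univ.image (fun χ : IrrCharacter H => (χ : H → ℂ))).card := by
    rw [Finset.card_image_of_injective _ Subtype.val_injective, Finset.card_univ,
      ← card_simpleChars hV]
    refine (Nat.card_le_card_of_injective _ Subtype.val_injective).trans_eq ?_
    rw [← Nat.card_eq_fintype_card, Chars.card_irr_eq_card_classes]
  have hT : T = _ := (Finset.eq_of_subset_of_card_le hsub hcard).symm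
  obtain ⟨L, hL, hsum⟩ := exists_decomposition (p := p) (Module.finrank (Res V) (Fin n → Res V)) σ rfl
  have hmem : ∀ φ ∈ L.map (fun s => bch p s.2), IsCharacter H φ := by
    intro φ hφ
    obtain ⟨s, hs, rfl⟩ := List.mem_map.1 hφ
    have h1 : bch p s.2 ∈ T := (Set.Finite.mem_toFinset _).2
      ⟨⟨s.1, s.2⟩, (hL s hs).simple, rfl⟩
    rw [hT] at h1
    obtain ⟨χ, -, hχ⟩ := Finset.mem_image.1 h1
    rw [← hχ]
    exact Chars.isCharacter_of_irr χ.2
  rw [hsum]
  clear hsum hL
  induction L with
  | nil => simpa using Chars.isCharacter_zero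
  | cons a L ih =>
    rw [List.map_cons, List.sum_cons]
    exact Chars.isCharacter_add (hmem _ (by simp))
      (ih fun φ hφ => hmem φ (List.mem_cons_of_mem _ hφ))

/-- Faithful coprime linear groups over the field with `p` elements are complex linear groups. -/
theorem liftHyp (hV : IsPlaceOver p M V) (hpM : (p : AlgInt) ∈ M) : LiftHyp.{u} p := by
  intro H _ _ hH W _ _ _ ρ hρ
  classical
  haveI : CharP (Res V) p := hV.charP
  set n := Module.finrank (ZMod p) W
  let b := Module.finBasis (ZMod p) W
  let A : H →* Matrix (Fin n) (Fin n) (ZMod p) :=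
    (LinearMap.toMatrixAlgEquiv b).toAlgHom.toMonoidHom.comp ρ
  have hA : Function.Injective A := (LinearMap.toMatrixAlgEquiv b).injective.comp hρ
  let c : ZMod p →+* Res V := ZMod.castHom dvd_rfl (Res V)
  let B : H →* Matrix (Fin n) (Fin n) (Res V) := c.mapMatrix.toMonoidHom.comp A
  have hB : Function.Injective B := fun x y h => hA (Matrix.ext fun i j =>
    c.injective (congrFun (congrFun h i) j))
  let σ : Representation (Res V) H (Fin n → Res V) :=
    (Matrix.toLinAlgEquiv' : Matrix (Fin n) (Fin n) (Res V) ≃ₐ[Res V] _).toAlgHom.toMonoidHom.comp B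
  have hσ : Function.Injective σ := Matrix.toLinAlgEquiv'.injective.comp hB
  obtain ⟨m, τ, hτ⟩ := isCharacter_bch hV hpM hH σ
  have hm : m = n := by
    have h1 := congrFun hτ 1
    rw [Representation.char_one, bch_one, Module.finrank_fin_fun, Module.finrank_fin_fun] at h1
    exact_mod_cast h1
  subst hm
  let f : H →* GL (Fin n) ℂ := MonoidHom.toHomUnits
    ((LinearMap.toMatrixAlgEquiv' : _ ≃ₐ[ℂ] Matrix (Fin n) (Fin n) ℂ).toAlgHom.toMonoidHom.comp τ)
  refine ⟨f, (injective_iff_map_eq_one f).2 fun g hg => ?_⟩
  have hreg : IsPRegular p g := fun h => hH (h.trans (orderOf_dvd_natCard g))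
  have hτg : τ g = 1 := LinearMap.toMatrixAlgEquiv'.injective
    (by rw [map_one]; exact congrArg Units.val hg)
  have hsum : ((σ g).charpoly.roots.map (liftRoot p)).sum = (n : ℂ) := by
    have h1 := congrFun hτ g
    rw [bch_of_regular σ hreg] at h1
    rw [← h1, Representation.character, hτg, LinearMap.trace_one, Module.finrank_fin_fun]
  have hcard : Multiset.card ((σ g).charpoly.roots) = n := by
    rw [← (IsAlgClosed.splits _).natDegree_eq_card_roots, LinearMap.charpoly_natDegree,
      Module.finrank_fin_fun]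
  have hone : ∀ x ∈ (σ g).charpoly.roots, x = 1 := by
    intro x hx
    obtain ⟨⟨k, hk, hzk⟩, hz, hres⟩ := isLift_of_root σ hreg hx
    have h1 : liftRoot p x = 1 := by
      refine eq_one_of_sum ((σ g).charpoly.roots.map (liftRoot p)) ?_
        (by rw [hsum, Multiset.card_map, hcard]) _ (Multiset.mem_map_of_mem _ hx)
      intro z hz'
      obtain ⟨y, hy, rfl⟩ := Multiset.mem_map.1 hz'
      obtain ⟨⟨j, hj, hzj⟩, -⟩ := isLift_of_root σ hreg hy
      exact Complex.norm_eq_one_of_pow_eq_one hzj (fun h0 => hj (h0 ▸ dvd_zero p))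
    rw [← hres]
    have : (⟨liftRoot p x, hz⟩ : V) = 1 := Subtype.ext h1
    rw [this, map_one]
  have hpoly : (σ g).charpoly = (Polynomial.X - Polynomial.C (1 : Res V)) ^ n := by
    rw [(IsAlgClosed.splits _).eq_prod_roots_of_monic (LinearMap.charpoly_monic _),
      Multiset.eq_replicate.2 ⟨hcard, hone⟩, Multiset.map_replicate, Multiset.prod_replicate]
  have hnil : (σ g - 1) ^ n = 0 := by
    have h1 := LinearMap.aeval_self_charpoly (σ g)
    rw [hpoly] at h1
    simpa using h1
  have hpow : σ g ^ (p ^ n) = 1 := by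
    rcases Nat.eq_zero_or_pos n with h0 | h0
    · haveI : IsEmpty (Fin n) := by rw [h0]; infer_instance
      exact Subsingleton.elim _ _
    haveI : Nonempty (Fin n) := ⟨⟨0, h0⟩⟩
    haveI : CharP (Module.End (Res V) (Fin n → Res V)) p :=
      charP_of_injective_algebraMap
        (algebraMap (Res V) (Module.End (Res V) (Fin n → Res V))).injective p
    have hle : n ≤ p ^ n := (Nat.lt_pow_self hp.out.one_lt).le
    have h1 : (σ g - 1) ^ (p ^ n) = 0 := pow_eq_zero_of_le hle hnil
    rw [sub_pow_char_pow_of_commute p n (Commute.one_right _), one_pow, sub_eq_zero] at h1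
    exact h1
  have hgp : g ^ (p ^ n) = 1 := hσ (by rw [map_pow, map_one, hpow])
  exact (pow_eq_one_iff_of_coprime
    (Nat.Coprime.pow_left n ((hp.out.coprime_iff_not_dvd).2 hH))).1 ⟨hgp, pow_card_eq_one'⟩

end CfsgLib.BlockSolv
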