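import Cfsg.Agent.Lib.BlockSolv.Lift
import Cfsg.Agent.Lib.BlockSolv.KernelBound
import Cfsg.Agent.Lib.Blocks.PSolvableHeights
import Cfsg.Agent.Lib.Blocks.CountBound

/-!
# The number of characters of a block of a solvable group
-/

set_option autoImplicit false
set_option linter.style.haveILetI false
set_option linter.unusedSectionVars false

namespace CfsgLib.BlockSolv

open Cfsg CfsgLib CfsgLib.Chars

universe u

/-- `k(B) ≤ 3 ^ (d - 1) p ^ d` for solvable groups and `p ≠ 2`, by Fong's reduction. -/
theorem card_block_le_odd {p : ℕ} [Fact p.Prime] (hp2 : p ≠ 2) {M : Ideal AlgInt} [M.IsPrime]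
    (hpM : (p : AlgInt) ∈ M) (hlift : LiftHyp.{u} p) :
    ∀ (n : ℕ) (G : Type u) [Group G] [Finite G], Nat.card G = n → Group.IsSolvable G →
      ∀ (B : Set (IrrCharacter G)), IsPBlock M B →
        B.ncard ≤ 3 ^ (blockDefect p B - 1) * p ^ blockDefect p B := by
  intro n
  induction n using Nat.strong_induction_on with
  | _ n ih =>
  intro G _ _ hn hsolv B hB
  classical
  haveI := hsolv
  haveI := Fintype.ofFinite G
  haveI := irrFintype G
  set N := pPrimeCore p G with hN
  haveI := Fintype.ofFinite N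
  have hNp : ¬ p ∣ Nat.card N := Base.not_dvd_card_pPrimeCore p G
  have hpsolv : IsPSolvable p G := PLocal.isPSolvable_of_isSolvable
  obtain ⟨χ, hχ⟩ := Blocks.IsPBlock.nonempty hB
  obtain ⟨θ, hθ⟩ := Blocks.exists_constituent_restrict N χ
  set T := CharsMore.inertia N (θ : N → ℂ) with hTdef
  haveI := Fintype.ofFinite T
  have hNT : N ≤ T := CharsMore.le_inertia N (isClassFunction_irr θ)
  by_cases hTtop : T = ⊤
  · have hinv : ∀ (g : G) (n : N), (θ : N → ℂ) (CharsMore.conjBy N g n) = (θ : N → ℂ) n :=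
      fun g => (CharsMore.mem_inertia N).mp (hTdef ▸ hTtop ▸ Subgroup.mem_top g)
    haveI := PLocal.pPrimePCore_normal p G
    obtain ⟨S⟩ : Nonempty (Sylow p ↥(pPrimePCore p G)) := inferInstance
    obtain ⟨k, hk⟩ := IsPGroup.iff_card.mp (Base.isPGroup_pCore p (G ⧸ pPrimeCore p G))
    have hrel : N.relIndex (pPrimePCore p G) = p ^ k := by
      rw [hN, ← hk, ← PLocal.card_map_mk'_eq_relIndex, pPrimePCore,
        Subgroup.map_comap_eq_self_of_surjective (QuotientGroup.mk'_surjective _)]
    have hRS : ¬ p ∣ ((S : Subgroup ↥(pPrimePCore p G)).map (pPrimePCore p G).subtype).relIndex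
        (pPrimePCore p G) := by
      rw [Subgroup.relIndex, Subgroup.subgroupOf,
        Subgroup.comap_map_eq_self_of_injective (pPrimePCore p G).subtype_injective]
      exact S.not_dvd_index
    obtain ⟨hB', hS⟩ := Blocks.fong_single_block hpM N hNp (pPrimePCore p G)
      (Base.pPrimeCore_le_pPrimePCore p G) hrel
      (Subgroup.map_subtype_le _) (S.2.map _) hRS
      ((PLocal.isPConstrained_of_isPSolvable hpsolv) S) θ hinv
    have hBeq : B = {χ : IrrCharacter G |
        classInner (fun n : N => (χ : G → ℂ) n) (θ : N → ℂ) ≠ 0} :=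
      Blocks.IsPBlock.eq_of_mem hB hB' hχ hθ
    obtain ⟨P⟩ : Nonempty (Sylow p G) := inferInstance
    have hd : blockDefect p B = (Nat.card (G ⧸ N)).factorization p := by
      have h1 := BlockOrth.card_defectGroup hpM hB' (hS P)
      rw [← hBeq, P.card_eq_multiplicity] at h1
      rw [← Nat.pow_right_injective (Fact.out : p.Prime).two_le h1,
        Subgroup.card_eq_card_quotient_mul_card_subgroup N,
        Nat.factorization_mul Nat.card_pos.ne' Nat.card_pos.ne', Finsupp.add_apply,
        Nat.factorization_eq_zero_of_not_dvd hNp, add_zero]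
    rw [hd, hBeq]
    exact (ncard_over_le N θ hinv).trans (card_classes_le_pow p hp2 hlift
      (Group.isSolvable_of_surjective (QuotientGroup.mk'_surjective N))
      (Base.pPrimeCore_quotient_pPrimeCore p G))
  · have hb := Blocks.isPBlock_singleton_of_pPrime (M := M) hpM hNp θ
    have hT : ∀ g : G, g ∈ T ↔ ∀ φ ∈ ({θ} : Set (IrrCharacter N)),
        Blocks.conjIrr N g φ ∈ ({θ} : Set (IrrCharacter N)) := fun g => by
      simp only [Set.mem_singleton_iff, forall_eq]
      rw [hTdef, CharsMore.mem_inertia]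
      exact ⟨fun h => Subtype.ext (funext fun m => by rw [Blocks.coe_conjIrr]; exact h m),
        fun h m => by
          have := congrFun (congrArg Subtype.val h) m
          rwa [Blocks.coe_conjIrr] at this⟩
    obtain ⟨ψ, hov, hψ⟩ := Blocks.exists_overBlock_indFun_eq hT hb hNT
      ⟨θ, Set.mem_singleton θ, hθ⟩
    have hB' := Blocks.isPBlock_blockOf (M := M) ψ
    have hmem := Blocks.mem_blockOf_self (M := M) ψ
    have hind : IsInducedBlock M T (blockOf M (ψ : T → ℂ)) B := by
      have h := Blocks.isInducedBlock_indFun hT hb hNT hB' hmem hov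
      rwa [hψ, ← Blocks.IsPBlock.eq_of_mem hB (Blocks.isPBlock_blockOf χ) hχ (Blocks.mem_blockOf_self χ)] at h
    have hiff := Blocks.mem_induced_iff hT hb hNT hB' hmem hov hind
    have hovall : ∀ η ∈ blockOf M (ψ : T → ℂ),
        Blocks.OverBlock hNT ({θ} : Set (IrrCharacter N)) (η : T → ℂ) := fun η hη =>
      Blocks.OverBlock.of_sameBlock hT hb hNT (Blocks.IsPBlock.sameBlock hB' hmem hη) hov
    have hdeg : ∀ (η : IrrCharacter T) (ξ : IrrCharacter G),
        (ξ : G → ℂ) = indFun T (η : T → ℂ) →
        (charDegree (ξ : G → ℂ)).factorization p =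
          T.index.factorization p + (charDegree (η : T → ℂ)).factorization p := fun η ξ he => by
      have h1 := congrFun he 1
      rw [indFun_one_apply, CharApps.deg_eq, CharApps.deg_eq, ← Nat.cast_mul, Nat.cast_inj] at h1
      rw [h1, Nat.factorization_mul Subgroup.index_ne_zero_of_finite (Blocks.charDegree_pos η).ne',
        Finsupp.add_apply]
    have hmin : BlockOrth.blockMin p B =
        T.index.factorization p + BlockOrth.blockMin p (blockOf M (ψ : T → ℂ)) := by
      unfold BlockOrth.blockMin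
      refine le_antisymm ?_ ?_
      · obtain ⟨η, hη, he⟩ := Nat.sInf_mem
          (⟨_, ψ, hmem, rfl⟩ : ((fun η : IrrCharacter T => (charDegree (η : T → ℂ)).factorization p)
            '' blockOf M (ψ : T → ℂ)).Nonempty)
        refine Nat.sInf_le ⟨⟨_, Blocks.isIrr_indFun_of_overBlock hT hb hNT (hovall η hη)⟩,
          (hiff _).2 ⟨η, hη, rfl⟩, ?_⟩
        show Nat.factorization _ p = _
        rw [hdeg η _ rfl, ← he]
      · refine le_csInf ⟨_, χ, hχ, rfl⟩ ?_
        rintro _ ⟨ξ, hξ, rfl⟩
        obtain ⟨η, hη, he⟩ := (hiff ξ).1 hξ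
        show _ ≤ Nat.factorization _ p
        rw [hdeg η ξ he]
        exact Nat.add_le_add_left (Nat.sInf_le
          (⟨η, hη, rfl⟩ : _ ∈ (fun η : IrrCharacter T => (charDegree (η : T → ℂ)).factorization p)
            '' blockOf M (ψ : T → ℂ))) _
    have hd : blockDefect p B = blockDefect p (blockOf M (ψ : T → ℂ)) := by
      have h1 := BlockOrth.blockMin_add_blockDefect (p := p) (B := B) ⟨χ, hχ⟩
      have h2 := BlockOrth.blockMin_add_blockDefect (p := p) (B := blockOf M (ψ : T → ℂ)) ⟨ψ, hmem⟩
      have h3 := congrArg (fun n : ℕ => n.factorization p) T.index_mul_card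
      simp only [Nat.factorization_mul Subgroup.index_ne_zero_of_finite Nat.card_pos.ne',
        Finsupp.add_apply] at h3
      omega
    have hlt : Nat.card T < n := by
      rw [← hn]
      exact lt_of_le_of_ne (Subgroup.card_le_card_group T) fun h => hTtop ((T.card_eq_iff_eq_top).mp h)
    have key := ih _ hlt T rfl
      (Group.isSolvable_of_isSolvable_injective (f := T.subtype) T.subtype_injective) _ hB'
    rw [hd]
    refine le_trans ?_ key
    rw [← Nat.card_coe_set_eq, ← Nat.card_coe_set_eq]
    choose f hf hfe using fun ξ : B => (hiff ξ.1).1 ξ.2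
    refine Nat.card_le_card_of_injective (fun ξ : B => (⟨f ξ, hf ξ⟩ : blockOf M (ψ : T → ℂ)))
      fun a b hab => Subtype.ext (Subtype.ext ?_)
    rw [hfe a, hfe b]
    exact congrArg (fun η : blockOf M (ψ : T → ℂ) => indFun T ((η : IrrCharacter T) : T → ℂ)) hab

/-- `k(B) ≤ 3 ^ (d - 1) p ^ d` for a block of positive defect of a solvable group. -/
theorem card_block_le {p : ℕ} [Fact p.Prime] {M : Ideal AlgInt} (hM : IsPModular p M)
    {G : Type u} [Group G] [Finite G] (hsolv : Group.IsSolvable G) (B : Set (IrrCharacter G))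
    (hB : IsPBlock M B) (hd : 0 < blockDefect p B) :
    B.ncard ≤ 3 ^ (blockDefect p B - 1) * p ^ blockDefect p B := by
  haveI : M.IsPrime := hM.2.1.isPrime
  have hpM := hM.2.2
  by_cases hp2 : p = 2
  · subst hp2
    haveI := Fintype.ofFinite G
    obtain ⟨h1, h2⟩ := Blocks.card_block_le_pow hM _ G B hB rfl
    rw [← Nat.card_coe_set_eq]
    rcases Nat.lt_or_ge (blockDefect 2 B) 3 with h | h
    · exact (h1 (by omega)).trans (Nat.le_mul_of_pos_left _ (Nat.pow_pos (by norm_num)))
    · refine (h2 h).trans ?_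
      obtain ⟨e, he⟩ : ∃ e, blockDefect 2 B = e + 1 := ⟨blockDefect 2 B - 1, by omega⟩
      rw [he, show 2 * (e + 1) - 2 = 2 * e by omega, Nat.add_sub_cancel, pow_mul]
      calc (2 ^ 2) ^ e ≤ (3 * 2) ^ e := Nat.pow_le_pow_left (by norm_num) e
        _ ≤ 3 ^ e * 2 ^ (e + 1) := by
            rw [mul_pow]
            exact Nat.mul_le_mul_left _ (Nat.pow_le_pow_right (by norm_num) (by omega))
  obtain ⟨V, hV⟩ := BrauerChar.exists_place (p := p) hpM
  exact card_block_le_odd hp2 hpM (liftHyp hV hpM) _ G rfl hsolv B hB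

end CfsgLib.BlockSolv
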