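import Cfsg.Agent.Lib.BlockSolv.Avg
import Cfsg.Agent.Lib.Base.MinNonNilpotent
import Cfsg.Agent.Lib.Involutions.AbelianNormalCyclic
import Mathlib.GroupTheory.Nilpotent

/-!
# Every nilpotent group of invertible order has a real vector
-/

set_option autoImplicit false
set_option linter.unusedSectionVars false
set_option linter.style.haveILetI false
set_option maxHeartbeats 1000000

namespace CfsgLib.BlockSolv

open Subgroup

universe u v

variable {k : Type*} [Field k] {V : Type v} [AddCommGroup V] [Module k V] [FiniteDimensional k V]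
  {F : Type u} [Group F] [Finite F]

theorem exists_minimal_finrank (P : Submodule k V → Prop) (h : ∃ W, P W) :
    ∃ W, P W ∧ ∀ U, P U → Module.finrank k W ≤ Module.finrank k U := by
  classical
  have hex : ∃ n, ∃ W, P W ∧ Module.finrank k W = n := let ⟨W, hW⟩ := h; ⟨_, W, hW, rfl⟩
  obtain ⟨W, hW, hn⟩ := Nat.find_spec hex
  exact ⟨W, hW, fun U hU => hn ▸ Nat.find_min' hex ⟨U, hU, rfl⟩⟩

theorem eq_of_card_eq_cyclic {G : Type*} [Group G] [Finite G] [IsCyclic G] {H K : Subgroup G}
    (h : Nat.card H = Nat.card K) : H = K := by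
  classical
  letI := Fintype.ofFinite G
  have hsub : ∀ L : Subgroup G, Nat.card L = Nat.card H →
      ((L : Set G).toFinset : Finset G) = Finset.univ.filter fun a => a ^ Nat.card H = 1 := by
    intro L hL
    refine Finset.eq_of_subset_of_card_le (fun a ha => ?_) ?_
    · rw [Set.mem_toFinset, SetLike.mem_coe] at ha
      rw [Finset.mem_filter, ← hL]
      exact ⟨Finset.mem_univ _, congrArg Subtype.val (pow_card_eq_one' (x := (⟨a, ha⟩ : L)))⟩
    · refine (IsCyclic.card_pow_eq_one_le Nat.card_pos).trans ?_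
      rw [Set.toFinset_card, ← Nat.card_eq_fintype_card]
      exact hL.ge
  have := (hsub H rfl).trans (hsub K h.symm).symm
  exact SetLike.coe_injective (Set.toFinset_inj.mp this)

/-- A normal subgroup of a Sylow subgroup of a nilpotent group is normal. -/
theorem normal_of_sylow_normal [Group.IsNilpotent F] {q : ℕ} [hq : Fact q.Prime] (P : Sylow q F)
    (A : Subgroup (P : Subgroup F)) [hA : A.Normal] :
    (A.map (P : Subgroup F).subtype).Normal := by
  constructor
  rintro _ ⟨a, ha, rfl⟩ g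
  show g * (a : F) * g⁻¹ ∈ A.map (P : Subgroup F).subtype
  have hP : (P : Subgroup F).Normal :=
    ((Group.isNilpotent_of_finite_tfae (G := F)).out 0 3 rfl rfl).mp inferInstance q hq P
  -- split g into its q-part and its q'-part
  obtain ⟨u, v, rfl, hu, hv, huv⟩ : ∃ u v : F, g = u * v ∧ IsPGroup q (zpowers u) ∧
      (orderOf v).Coprime q ∧ Commute u v := by
    obtain ⟨n, m, hm, hn⟩ := Nat.exists_eq_pow_mul_and_not_dvd (orderOf_pos g).ne' q hq.out.ne_one
    have hcop : (q ^ n).Coprime m :=
      Nat.Coprime.pow_left _ ((hq.out.coprime_iff_not_dvd).mpr hm)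
    obtain ⟨x, y, hxy⟩ : IsCoprime ((q ^ n : ℕ) : ℤ) (m : ℤ) := Nat.Coprime.isCoprime hcop
    have hg : g ^ ((q ^ n : ℕ) * m : ℤ) = 1 := by
      rw [← Nat.cast_mul, zpow_natCast, ← hn, pow_orderOf_eq_one]
    refine ⟨g ^ (y * m), g ^ (x * (q ^ n : ℕ)), ?_, ?_, ?_, Commute.zpow_zpow_self g _ _⟩
    · rw [← zpow_add, add_comm, hxy, zpow_one]
    · rw [IsPGroup.iff_card]
      have h1 : (g ^ (y * m)) ^ (q ^ n) = 1 := by
        rw [← zpow_natCast, ← zpow_mul, mul_assoc, mul_comm (m : ℤ), mul_comm y, zpow_mul, hg,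
          one_zpow]
      rw [Nat.card_zpowers]
      obtain ⟨j, -, hj⟩ := (Nat.dvd_prime_pow hq.out).mp (orderOf_dvd_of_pow_eq_one h1)
      exact ⟨j, hj⟩
    · refine Nat.Coprime.coprime_dvd_left ?_ (hq.out.coprime_iff_not_dvd.mpr hm).symm
      apply orderOf_dvd_of_pow_eq_one
      rw [← zpow_natCast, ← zpow_mul, mul_assoc, mul_comm x, zpow_mul, hg, one_zpow]
  have huP : u ∈ (P : Subgroup F) := by
    obtain ⟨Q, hQ⟩ := hu.exists_le_sylow
    haveI := hP
    haveI := Sylow.unique_of_normal P hP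
    exact (Subsingleton.elim Q P) ▸ hQ (mem_zpowers u)
  have hvc : v * (a : F) * v⁻¹ = a := by
    have h := CfsgLib.Base.MinNonNilpotent.commute_of_nilpotent (G := F) (H := ⊤)
      (inferInstance) (p := q) (A := (P : Subgroup F)) P.2 le_top (mem_top v) hv
    rw [← mem_centralizer_iff.mp h a a.2, mul_inv_cancel_right]
  refine ⟨⟨u, huP⟩ * a * ⟨u, huP⟩⁻¹, hA.conj_mem a ha _, ?_⟩
  show u * (a : F) * u⁻¹ = u * v * (a : F) * (u * v)⁻¹
  conv_rhs => rw [mul_inv_rev, mul_assoc u v, mul_assoc u, ← mul_assoc (v * (a : F)), hvc]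
  rw [mul_assoc]

/-- An abelian group acting without fixed points is cyclic. -/
theorem isCyclic_of_fpf (ρ : Representation k F V) (hV : Nontrivial V) (A : Subgroup F)
    (hA : IsMulCommutative A)
    (hfpf : ∀ a ∈ A, a ≠ 1 → ∀ x : V, ρ a x = x → x = 0) : IsCyclic A := by
  classical
  haveI := hA
  haveI := hV
  -- a minimal invariant subspace
  let P : Submodule k V → Prop := fun W => W ≠ ⊥ ∧ ∀ a ∈ A, ∀ x ∈ W, ρ a x ∈ W
  obtain ⟨W, ⟨hW0, hWi⟩, hmin⟩ := exists_minimal_finrank P ⟨⊤, top_ne_bot, fun _ _ _ _ => trivial⟩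
  haveI : Nontrivial W := Submodule.nontrivial_iff_ne_bot.mpr hW0
  let r : A →* Module.End k W :=
    { toFun := fun a => (ρ a).restrict (hWi a a.2)
      map_one' := by ext x; simp
      map_mul' := fun a b => by ext x; simp }
  let E := Algebra.adjoin k (Set.range r)
  have hc : ∀ a b : A, r a * r b = r b * r a := fun a b => by rw [← map_mul, mul_comm', map_mul]
  letI : CommRing E := Algebra.adjoinCommRingOfComm k (by
    rintro _ ⟨a, rfl⟩ _ ⟨b, rfl⟩; exact hc a b)
  have hcomm : ∀ e : E, ∀ a : A, (e : Module.End k W) * r a = r a * e := fun e a =>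
    congrArg Subtype.val (mul_comm e ⟨r a, Algebra.subset_adjoin ⟨a, rfl⟩⟩)
  have hinj : ∀ e : E, e ≠ 0 → Function.Injective (e : Module.End k W) := fun e he => by
    by_contra hne
    have hker : LinearMap.ker (e : Module.End k W) ≠ ⊥ := fun h =>
      hne (LinearMap.ker_eq_bot.mp h)
    let K : Submodule k V := (LinearMap.ker (e : Module.End k W)).map W.subtype
    have hK : P K := ⟨fun h => hker (by
      rw [← Submodule.map_bot W.subtype] at h
      exact Submodule.map_injective_of_injective W.subtype_injective h), by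
      rintro a ha _ ⟨x, hx, rfl⟩
      refine ⟨r ⟨a, ha⟩ x, ?_, rfl⟩
      rw [SetLike.mem_coe, LinearMap.mem_ker] at hx ⊢
      rw [← Module.End.mul_apply, hcomm, Module.End.mul_apply, hx, map_zero]⟩
    have hle : K ≤ W := by rintro _ ⟨x, -, rfl⟩; exact x.2
    have hKW : K = W := Submodule.eq_of_le_of_finrank_le hle (hmin K hK)
    refine he (Subtype.ext (LinearMap.ext fun x => ?_))
    have hxK : (x : V) ∈ K := by rw [hKW]; exact x.2
    obtain ⟨y, hy, hyx⟩ := hxK
    rw [show x = y from Subtype.ext hyx.symm]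
    exact hy
  haveI : Nontrivial E := ⟨⟨0, 1, fun h => zero_ne_one (congrArg Subtype.val h)⟩⟩
  haveI : NoZeroDivisors E := by
    constructor
    intro a b hab
    refine or_iff_not_imp_left.mpr fun ha => Subtype.ext (LinearMap.ext fun x => hinj a ha ?_)
    rw [ZeroMemClass.coe_zero, LinearMap.zero_apply, map_zero]
    have := congrArg (fun e : E => (e : Module.End k W) x) hab
    simpa using this
  haveI : IsDomain E := NoZeroDivisors.to_isDomain E
  let f : A →* E :=
    { toFun := fun a => ⟨r a, Algebra.subset_adjoin ⟨a, rfl⟩⟩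
      map_one' := Subtype.ext (map_one r)
      map_mul' := fun a b => Subtype.ext (map_mul r a b) }
  refine isCyclic_of_injective_ringHom f ?_
  intro a b hab
  by_contra hne
  obtain ⟨x, hx⟩ := exists_ne (0 : W)
  have h1 : ρ (a : F) x = ρ (b : F) x :=
    congrArg (fun e : E => (((e : Module.End k W) x : W) : V)) hab
  refine hx (Subtype.ext (hfpf ((b : F)⁻¹ * a) (mul_mem (inv_mem b.2) a.2) ?_ x ?_))
  · exact fun h => hne (Subtype.ext (inv_mul_eq_one.mp h).symm)
  · rw [map_mul, Module.End.mul_apply, h1, Representation.inv_self_apply]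

/-- If all abelian normal subgroups act without fixed points, vector stabilisers have
exponent two. -/
theorem sq_eq_one_of_fpf [Group.IsNilpotent F] (ρ : Representation k F V)
    (hk : (Nat.card F : k) ≠ 0)
    (hfpf : ∀ A : Subgroup F, A.Normal → IsMulCommutative A → ∀ a ∈ A, a ≠ 1 →
      ∀ x : V, ρ a x = x → x = 0) {w : V} (hw : w ≠ 0) {g : F} (hg : ρ g w = w) : g ^ 2 = 1 := by
  classical
  -- fixed-point-free abelian normal subgroups are cyclic
  have hcyc : ∀ A : Subgroup F, A.Normal → IsMulCommutative A → IsCyclic A :=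
    fun A hAn hAc => isCyclic_of_fpf ρ ⟨⟨w, 0, hw⟩⟩ A hAc (hfpf A hAn hAc)
  -- the stabiliser meets abelian normal subgroups trivially
  have hst : ∀ (h : F), ρ h w = w → ∀ A : Subgroup F, A.Normal → IsMulCommutative A →
      h ∈ A → h = 1 := fun h hh A hAn hAc hhA => by
    by_contra h1
    exact hw (hfpf A hAn hAc h hhA h1 w hh)
  have key : ∀ q : ℕ, q.Prime → ∀ x : F, ρ x w = w → (∃ j, orderOf x = q ^ j) →
      x ^ 2 = 1 ∧ (q ≠ 2 → x = 1) := by
    intro q hq x hx ⟨j, hj⟩
    haveI : Fact q.Prime := ⟨hq⟩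
    obtain ⟨P, hP⟩ := (IsPGroup.of_card (p := q) (n := j)
      (G := zpowers x) (by rw [Nat.card_zpowers, hj])).exists_le_sylow
    have hxP : x ∈ (P : Subgroup F) := hP (mem_zpowers x)
    have hn : ∀ A : Subgroup (P : Subgroup F), A.Normal → IsMulCommutative A → IsCyclic A := by
      intro A hA hAc
      haveI := hA
      haveI := normal_of_sylow_normal P A
      haveI := hcyc (A.map (P : Subgroup F).subtype) inferInstance inferInstance
      exact (A.equivMapOfInjective _ (subtype_injective _)).isCyclic.mpr inferInstance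
    have inA : ∀ (A : Subgroup (P : Subgroup F)), A.Normal → IsMulCommutative A →
        ∀ y : (P : Subgroup F), ρ (y : F) w = w → y ∈ A → y = 1 := by
      intro A hA hAc y hy hyA
      haveI := hA
      exact Subtype.ext (hst y hy (A.map (P : Subgroup F).subtype) (normal_of_sylow_normal P A)
        inferInstance ⟨y, hyA, rfl⟩)
    by_cases hm : ∃ B : Subgroup (P : Subgroup F), IsMulCommutative B ∧ ¬ IsCyclic B
    · obtain ⟨hq2, hcl⟩ := CfsgLib.Involutions.abelianNormalCyclic_main P.2 hn hm
      obtain ⟨C, hC, hCc⟩ : ∃ C : Subgroup (P : Subgroup F), C.index = 2 ∧ IsCyclic C := by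
        have mk : ∀ c : (P : Subgroup F), 2 * orderOf c = Nat.card (P : Subgroup F) →
            ∃ C : Subgroup (P : Subgroup F), C.index = 2 ∧ IsCyclic C := fun c hc => by
          refine ⟨zpowers c, Nat.eq_of_mul_eq_mul_right (orderOf_pos c) ?_, inferInstance⟩
          rw [hc, ← Nat.card_zpowers c, Subgroup.index_mul_card]
        rcases hcl with ⟨n, ⟨e⟩⟩ | ⟨n, -, ⟨e⟩⟩ | ⟨n, hn3, hcard, c, y, hc, -⟩
        · haveI : NeZero n := ⟨fun h0 => by
            subst h0
            haveI := Finite.of_equiv _ e.toEquiv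
            have h1 := orderOf_pos (QuaternionGroup.a 1 : QuaternionGroup 0)
            rw [QuaternionGroup.orderOf_a_one] at h1
            omega⟩
          refine mk (e.symm (QuaternionGroup.a 1)) ?_
          rw [MulEquiv.orderOf_eq, QuaternionGroup.orderOf_a_one, Nat.card_congr e.toEquiv,
            Nat.card_eq_fintype_card, QuaternionGroup.card]
          omega
        · refine mk (e.symm (DihedralGroup.r 1)) ?_
          rw [MulEquiv.orderOf_eq, DihedralGroup.orderOf_r_one, Nat.card_congr e.toEquiv,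
            DihedralGroup.nat_card]
        · exact mk c (by rw [hc, hcard, pow_succ']) 
      haveI := Subgroup.normal_of_index_eq_two hC
      haveI := hCc
      refine ⟨?_, fun h2 => absurd hq2 h2⟩
      have h2 := inA C inferInstance inferInstance (⟨x, hxP⟩ ^ 2)
        (by rw [Subgroup.coe_pow, map_pow, pow_two, Module.End.mul_apply, hx, hx])
        (Subgroup.sq_mem_of_index_two hC _)
      simpa using congrArg Subtype.val h2
    · push Not at hm
      suffices hx1 : x = 1 from ⟨by rw [hx1, one_pow], fun _ => hx1⟩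
      by_contra hne
      -- an element of order `q` fixing `w`
      obtain ⟨y, hy, hyw⟩ : ∃ y : (P : Subgroup F), orderOf y = q ∧ ρ (y : F) w = w := by
        have hdvd : q ∣ orderOf x := by
          rcases j with _ | j
          · exact absurd (orderOf_eq_one_iff.mp (by rw [hj, pow_zero])) hne
          · rw [hj]; exact dvd_pow_self _ (Nat.succ_ne_zero j)
        refine ⟨⟨x ^ (orderOf x / q), pow_mem hxP _⟩, ?_, ?_⟩
        · rw [Subgroup.orderOf_mk, orderOf_pow_orderOf_div (orderOf_pos x).ne' hdvd]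
        · show ρ (x ^ (orderOf x / q)) w = w
          induction orderOf x / q with
          | zero => simp
          | succ i ih => rw [pow_succ, map_mul, Module.End.mul_apply, hx, ih]
      haveI : Nontrivial (P : Subgroup F) :=
        ⟨⟨y, 1, fun h => hq.ne_one (by rw [← hy, h, orderOf_one])⟩⟩
      haveI := P.2.center_nontrivial
      obtain ⟨z, hz⟩ : ∃ z : Subgroup.center (P : Subgroup F), orderOf z = q := by
        refine exists_prime_orderOf_dvd_card' q ?_
        obtain ⟨i, hi⟩ := IsPGroup.iff_card.mp (P.2.to_subgroup (Subgroup.center _))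
        rcases i with _ | i
        · exact absurd hi (by rw [pow_zero]; exact (Finite.one_lt_card).ne')
        · rw [hi]; exact dvd_pow_self _ (Nat.succ_ne_zero i)
      let B : Subgroup (P : Subgroup F) := closure {(z : (P : Subgroup F)), y}
      haveI hBc : IsMulCommutative B := Subgroup.isMulCommutative_closure (by
        rintro a (rfl | rfl) b (rfl | rfl)
        · rfl
        · exact (mem_center_iff.mp z.2 _).symm
        · exact mem_center_iff.mp z.2 _
        · rfl)
      haveI := hm B hBc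
      -- in a cyclic group the subgroup of order `q` is unique
      have hyz : y ∈ zpowers (z : (P : Subgroup F)) := by
        let zB : B := ⟨z, subset_closure (Or.inl rfl)⟩
        let yB : B := ⟨y, subset_closure (Or.inr rfl)⟩
        have hzq : Nat.card (zpowers zB) = q := by
          rw [Nat.card_zpowers, ← Subgroup.orderOf_coe]
          show orderOf ((z : (P : Subgroup F))) = q
          rw [Subgroup.orderOf_coe, hz]
        have hyq : Nat.card (zpowers yB) = q := by
          rw [Nat.card_zpowers, ← Subgroup.orderOf_coe]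
          exact hy
        have : zpowers yB = zpowers zB :=
          CfsgLib.BlockSolv.eq_of_card_eq_cyclic (hyq.trans hzq.symm)
        obtain ⟨i, hi⟩ := mem_zpowers_iff.mp (this ▸ mem_zpowers yB : yB ∈ zpowers zB)
        exact ⟨i, by simpa using congrArg Subtype.val hi⟩
      have h1 := inA (Subgroup.center _) inferInstance inferInstance y hyw
        (zpowers_le.mpr z.2 hyz)
      rw [h1, orderOf_one] at hy
      exact hq.ne_one hy.symm
  -- all prime power parts of `g`
  by_contra hg2
  have hstab : ∀ i : ℕ, ρ (g ^ i) w = w := fun i => by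
    induction i with
    | zero => simp
    | succ i ih => rw [pow_succ, map_mul, Module.End.mul_apply, hg, ih]
  have hdvd : orderOf g ∣ 2 := by
    rw [Nat.dvd_iff_prime_pow_dvd_dvd]
    intro q j hq hqj
    rcases j with _ | j
    · simp
    set x := g ^ (orderOf g / q ^ (j + 1)) with hx
    have hox : orderOf x = q ^ (j + 1) := orderOf_pow_orderOf_div (orderOf_pos g).ne' hqj
    obtain ⟨h2, hodd⟩ := key q hq x (hstab _) ⟨_, hox⟩
    have := orderOf_dvd_of_pow_eq_one h2
    rwa [hox] at this
  exact hg2 (orderOf_dvd_iff_pow_eq_one.mp hdvd)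

/-- The statement proved by induction on the dimension. -/
def RealVecUpTo (k : Type*) [Field k] (d : ℕ) : Prop :=
  ∀ (V : Type v) [AddCommGroup V] [Module k V] [FiniteDimensional k V] (F : Type u) [Group F]
    [Finite F] [Group.IsNilpotent F],
    Module.finrank k V < d → (Nat.card F : k) ≠ 0 → ∀ ρ : Representation k F V, HasRealVec ρ

/-- The induction step for a faithful representation. -/
theorem hasRealVec_step [Group.IsNilpotent F] (h2 : (2 : k) ≠ 0) (hk : (Nat.card F : k) ≠ 0)
    (ρ : Representation k F V) (hρ : ∀ g, ρ g = 1 → g = 1)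
    (ih : RealVecUpTo.{u, v} k (Module.finrank k V)) : HasRealVec ρ := by
  classical
  rcases subsingleton_or_nontrivial V with hV | hV
  · exact ⟨0, 0, fun x _ => Subsingleton.elim x 0, fun g _ x y => by simp⟩
  by_cases hred : ∃ U : Submodule k V, U ≠ ⊥ ∧ U ≠ ⊤ ∧ ∀ g : F, ∀ x ∈ U, ρ g x ∈ U
  · -- a proper invariant subspace
    obtain ⟨U, hU0, hU1, hU⟩ := hred
    obtain ⟨e, he, hrange, hcomm⟩ := exists_invariant_idem ρ hk U hU
    have hsum := LinearMap.finrank_range_add_finrank_ker e
    have hr : 0 < Module.finrank k (LinearMap.range e) := by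
      rw [Nat.pos_iff_ne_zero, ne_eq, Submodule.finrank_eq_zero, hrange]; exact hU0
    have hlt : Module.finrank k (LinearMap.range e) < Module.finrank k V :=
      Submodule.finrank_lt (hrange ▸ hU1)
    have hiR : ∀ g : F, ∀ x ∈ LinearMap.range e, ρ g x ∈ LinearMap.range e := by
      rintro g _ ⟨z, rfl⟩; exact ⟨ρ g z, (hcomm g z).symm⟩
    have hiK : ∀ g : F, ∀ x ∈ LinearMap.ker e, ρ g x ∈ LinearMap.ker e := fun g x hx => by
      rw [LinearMap.mem_ker] at hx ⊢; rw [← hcomm, hx, map_zero]
    let ρ₁ : Representation k F (LinearMap.range e) :=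
      { toFun := fun g => (ρ g).restrict (hiR g)
        map_one' := by ext x; simp
        map_mul' := fun a b => by ext x; simp }
    let ρ₂ : Representation k F (LinearMap.ker e) :=
      { toFun := fun g => (ρ g).restrict (hiK g)
        map_one' := by ext x; simp
        map_mul' := fun a b => by ext x; simp }
    obtain ⟨v₁, B₁, hB₁, hi₁⟩ := ih _ F hlt hk ρ₁
    obtain ⟨v₂, B₂, hB₂, hi₂⟩ := ih _ F (by omega) hk ρ₂
    obtain ⟨B, hB, hBi⟩ := nondeg_glue he B₁ B₂ hB₁ hB₂
    refine ⟨(v₁ : V) + v₂, B, hB, fun g hg => hBi (ρ g) (hcomm g) ?_ ?_⟩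
    all_goals
      have h1 : e ((v₁ : V) + v₂) = v₁ := by
        obtain ⟨z, hz⟩ := v₁.2
        rw [map_add, LinearMap.mem_ker.mp v₂.2, add_zero, ← hz, he]
      have hg1 : ρ g (v₁ : V) = v₁ := by rw [← h1, hcomm, hg]
    · exact hi₁ g (Subtype.ext hg1)
    · refine hi₂ g (Subtype.ext ?_)
      show ρ g (v₂ : V) = v₂
      rwa [map_add, hg1, add_right_inj] at hg
  push Not at hred
  have hirr : ∀ U : Submodule k V, U ≠ ⊥ → (∀ g : F, ∀ x ∈ U, ρ g x ∈ U) → U = ⊤ := fun U h0 hU =>
    by_contra fun h1 => by obtain ⟨g, x, hx, hgx⟩ := hred U h0 h1; exact hgx (hU g x hx)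
  by_cases hfpf : ∀ A : Subgroup F, A.Normal → IsMulCommutative A → ∀ a ∈ A, a ≠ 1 →
      ∀ x : V, ρ a x = x → x = 0
  · -- stabilisers are elementary abelian of exponent two
    obtain ⟨w, hw⟩ := exists_ne (0 : V)
    have hsq : ∀ g : F, ρ g w = w → g ^ 2 = 1 := fun g hg => sq_eq_one_of_fpf ρ hk hfpf hw hg
    obtain ⟨B, hB, hBi⟩ := exists_form_of_involutions h2 _ V rfl
      {f | ∃ g : F, ρ g w = w ∧ f = ρ g}
      (by
        rintro _ ⟨g, hg, rfl⟩ x
        rw [← Module.End.mul_apply, ← map_mul, ← pow_two, hsq g hg, map_one, Module.End.one_apply])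
      (by
        rintro _ ⟨g, hg, rfl⟩ _ ⟨g', hg', rfl⟩ x
        have e1 : g⁻¹ = g := inv_eq_of_mul_eq_one_right (by rw [← pow_two, hsq g hg])
        have e2 : g'⁻¹ = g' := inv_eq_of_mul_eq_one_right (by rw [← pow_two, hsq g' hg'])
        have e3 : (g * g')⁻¹ = g * g' := inv_eq_of_mul_eq_one_right (by
          rw [← pow_two]
          exact hsq _ (by rw [map_mul, Module.End.mul_apply, hg', hg]))
        rw [← Module.End.mul_apply, ← map_mul, ← e3, mul_inv_rev, e1, e2, map_mul,
          Module.End.mul_apply])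
    exact ⟨w, B, hB, fun g hg => hBi _ ⟨g, hg, rfl⟩⟩
  -- a system of imprimitivity
  push Not at hfpf
  obtain ⟨A, hAn, hAc, a, haA, ha1, x, hax, hx⟩ := hfpf
  haveI := hAn
  haveI := hAc
  let P : Subgroup F → Prop := fun K => K ≤ A ∧ fix ρ K ≠ ⊥
  have ha0 : P (zpowers a) := by
    refine ⟨zpowers_le.mpr haA, fun h => hx ?_⟩
    have : x ∈ fix ρ (zpowers a) := by
      intro b hb
      obtain ⟨i, rfl⟩ := (mem_powers_iff_mem_zpowers).mpr hb
      induction i with
      | zero => simp
      | succ i ihi =>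
        show ρ (a ^ (i + 1)) x = x
        rw [pow_succ, map_mul, Module.End.mul_apply, hax]
        exact ihi (npow_mem_zpowers a i)
    rwa [h, Submodule.mem_bot] at this
  obtain ⟨K₀, hK₀a, hK₀, hK₀max⟩ : ∃ K₀, zpowers a ≤ K₀ ∧ P K₀ ∧ ∀ L, P L → K₀ ≤ L → L ≤ K₀ := by
    obtain ⟨K₀, hle, hmax⟩ := (Set.toFinite {K | P K}).exists_le_maximal ha0
    exact ⟨K₀, hle, hmax.prop, fun L hL h => hmax.le_of_ge hL h⟩
  let c : F → Subgroup F := fun g => K₀.map (MulAut.conj g).toMonoidHom
  have hcA : ∀ g, c g ≤ A := fun g => by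
    rintro _ ⟨z, hz, rfl⟩; exact hAn.conj_mem z (hK₀.1 hz) g
  have hfixc : ∀ g, ∀ y, ρ g y ∈ fix ρ (c g) ↔ y ∈ fix ρ K₀ := fun g y => by
    constructor
    · intro h b hb
      apply (ρ.apply_bijective g).1
      have := h (g * b * g⁻¹) ⟨b, hb, rfl⟩
      simpa [map_mul] using this
    · rintro h _ ⟨b, hb, rfl⟩
      show ρ (g * b * g⁻¹) (ρ g y) = ρ g y
      simp [map_mul, h b hb]
  have hmaxc : ∀ g L, L ≤ A → fix ρ L ≠ ⊥ → c g ≤ L → L ≤ c g := by
    intro g L hL hfix hle z hz
    have h1 : K₀ ≤ L.map (MulAut.conj g⁻¹).toMonoidHom := fun b hb =>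
      ⟨g * b * g⁻¹, hle ⟨b, hb, rfl⟩, by simp [mul_assoc]⟩
    have h2 := hK₀max _ ⟨by rintro _ ⟨b, hb, rfl⟩; exact hAn.conj_mem b (hL hb) g⁻¹, by
      obtain ⟨y, hy, hy0⟩ := (Submodule.ne_bot_iff _).mp hfix
      refine (Submodule.ne_bot_iff _).mpr ⟨ρ g⁻¹ y, ?_, fun h => hy0 ?_⟩
      · rintro _ ⟨b, hb, rfl⟩
        show ρ (g⁻¹ * b * g⁻¹⁻¹) (ρ g⁻¹ y) = ρ g⁻¹ y
        simp [map_mul, hy b hb]
      · rw [← Representation.self_inv_apply ρ g y, h, map_zero]⟩ h1
    exact ⟨g⁻¹ * z * g⁻¹⁻¹, h2 ⟨z, hz, rfl⟩, by simp [mul_assoc]⟩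
  let ι := {K : Subgroup F // ∃ g, c g = K}
  letI : Fintype ι := Fintype.ofFinite ι
  let e : ι → Module.End k V := fun K => av ρ K.1
  have horth : ∀ (i j : ι) y, e i (e j y) = if i = j then e j y else 0 := by
    intro i j y
    obtain ⟨i, g, hg⟩ := i
    obtain ⟨j, g', hg'⟩ := j
    subst hg
    subst hg'
    split_ifs with h
    · rw [show e ⟨c g, g, rfl⟩ = e ⟨c g', g', rfl⟩ from congrArg e h]
      exact av_eq_self ρ hk (av_mem_fix ρ _ _)
    by_contra hne
    set z := e ⟨c g, g, rfl⟩ (e ⟨c g', g', rfl⟩ y) with hz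
    have h1 : z ∈ fix ρ (c g) := av_mem_fix ρ _ _
    have h2 : z ∈ fix ρ (c g') := by
      rw [hz]
      show av ρ (c g) (av ρ (c g') y) ∈ _
      rw [av_commute ρ (hcA g) (hcA g')]
      exact av_mem_fix ρ _ _
    let S : Subgroup F :=
      { carrier := {b | ρ b z = z}
        one_mem' := by simp
        mul_mem' := fun {b b'} hb hb' => by
          show ρ (b * b') z = z
          rw [map_mul, Module.End.mul_apply, hb', hb]
        inv_mem' := fun {b} hb => by
          show ρ b⁻¹ z = z
          conv_lhs => rw [← hb]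
          rw [Representation.inv_self_apply] }
    have hle : c g ⊔ c g' ≤ S := sup_le (fun b hb => h1 b hb) (fun b hb => h2 b hb)
    have hfix : fix ρ (c g ⊔ c g') ≠ ⊥ :=
      (Submodule.ne_bot_iff _).mpr ⟨z, fun b hb => hle hb, hne⟩
    have h3 := hmaxc g _ (sup_le (hcA g) (hcA g')) hfix le_sup_left
    have h4 := hmaxc g' _ (sup_le (hcA g) (hcA g')) hfix le_sup_right
    exact h (Subtype.ext (le_antisymm (le_sup_left.trans h4) (le_sup_right.trans h3)))
  have hc1 : c 1 = K₀ := by
    ext z; simp [c]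
  let i₀ : ι := ⟨K₀, 1, hc1⟩
  let act : F → ι → ι := fun g K => ⟨K.1.map (MulAut.conj g).toMonoidHom, by
    obtain ⟨h, hh⟩ := K.2
    refine ⟨g * h, ?_⟩
    rw [← hh]
    ext z
    simp [c, mul_assoc]⟩
  have hact : ∀ g i y, ρ g (e i y) = e (act g i) (ρ g y) := fun g i y => rho_av_conj ρ i.1 g y
  let gi : ι → F := fun i => Classical.choose i.2
  have hgi : ∀ i y, ρ (gi i) (e i₀ y) = e i (ρ (gi i) y) := fun i y => by
    rw [hact]
    exact congrArg (fun K => av ρ K (ρ (gi i) y)) (Classical.choose_spec i.2)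
  have hne : ∀ i, ∃ y, e i y ≠ 0 := fun i => by
    obtain ⟨y, hy, hy0⟩ := (Submodule.ne_bot_iff _).mp hK₀.2
    refine ⟨ρ (gi i) y, fun h => hy0 ?_⟩
    rw [← hgi, show e i₀ y = y from av_eq_self ρ hk hy] at h
    exact (ρ.apply_bijective (gi i)).1 (h.trans (map_zero _).symm)
  let E : Module.End k V := ∑ i, e i
  have hEE : ∀ y, E (E y) = E y := fun y => by
    simp only [E, LinearMap.sum_apply, map_sum]
    refine Finset.sum_congr rfl fun j _ => ?_
    rw [Finset.sum_eq_single_of_mem j (Finset.mem_univ j)]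
    · rw [horth, if_pos rfl]
    · intro i _ hi
      rw [horth, if_neg hi]
  have hactinj : ∀ g, Function.Bijective (act g) := fun g => Finite.injective_iff_bijective.mp
    fun i j hij => Subtype.ext
      (Subgroup.map_injective (MulAut.conj g).injective (congrArg Subtype.val hij))
  have hErange : LinearMap.range E = ⊤ := by
    refine hirr _ ?_ ?_
    · intro h0
      rw [LinearMap.range_eq_bot] at h0
      obtain ⟨y, hy⟩ := hne i₀
      refine hy ?_
      have := congrArg (fun f : Module.End k V => e i₀ (f y)) h0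
      simp only [E, LinearMap.sum_apply, map_sum, LinearMap.zero_apply, map_zero] at this
      rw [Finset.sum_eq_single_of_mem i₀ (Finset.mem_univ _)
        (fun i _ hi => by rw [horth, if_neg (Ne.symm hi)]), horth, if_pos rfl] at this
      exact this
    · rintro g _ ⟨y, rfl⟩
      refine ⟨ρ g y, ?_⟩
      simp only [E, LinearMap.sum_apply, map_sum, hact]
      exact ((hactinj g).sum_comp fun i => e i (ρ g y)).symm
  have hsum : ∀ y, ∑ i, e i y = y := fun y => by
    obtain ⟨z, hz⟩ := (hErange ▸ Submodule.mem_top : y ∈ LinearMap.range E)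
    rw [← LinearMap.sum_apply]
    show E y = y
    rw [← hz, hEE]
  let U₀ := LinearMap.range (e i₀)
  have hU₀ : U₀ ≠ ⊤ := by
    intro h
    refine ha1 (hρ a (LinearMap.ext fun y => ?_))
    obtain ⟨z, hz⟩ := (h ▸ Submodule.mem_top : y ∈ U₀)
    rw [Module.End.one_apply, ← hz]
    exact rho_av ρ (hK₀a (mem_zpowers a)) z
  let T : Subgroup F :=
    { carrier := {g | ∀ y, ρ g (e i₀ y) = e i₀ (ρ g y)}
      one_mem' := fun y => by simp
      mul_mem' := fun {b b'} hb hb' y => by
        simp only [map_mul, Module.End.mul_apply]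
        rw [hb', hb]
      inv_mem' := fun {b} hb y => by
        apply (ρ.apply_bijective b).1
        rw [Representation.self_inv_apply, hb, Representation.self_inv_apply] }
  have hTU : ∀ g : T, ∀ y ∈ U₀, ρ (g : F) y ∈ U₀ := by
    rintro g _ ⟨z, rfl⟩; exact ⟨ρ (g : F) z, (g.2 z).symm⟩
  let ρT : Representation k T U₀ :=
    { toFun := fun g => (ρ (g : F)).restrict (hTU g)
      map_one' := by ext y; simp
      map_mul' := fun b b' => by ext y; simp }
  obtain ⟨v₀, B₀, hB₀, hi₀⟩ := ih _ T (Submodule.finrank_lt hU₀) (card_ne_zero hk T) ρT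
  have hv₀ : e i₀ (v₀ : V) = v₀ := by
    obtain ⟨z, hz⟩ := v₀.2
    rw [← hz, horth, if_pos rfl]
  exact hasRealVec_blocks ρ e horth hsum hne i₀ act hact gi hgi v₀ hv₀ B₀ hB₀
    fun h hc hv y y' => hi₀ ⟨h, hc⟩ (Subtype.ext hv) y y'

/-- A representation of a nilpotent group of invertible order has a vector whose stabiliser
preserves a nondegenerate bilinear form. -/
theorem hasRealVec (h2 : (2 : k) ≠ 0) : ∀ (d : ℕ) (V : Type v) [AddCommGroup V] [Module k V]
    [FiniteDimensional k V] (F : Type u) [Group F] [Finite F] [Group.IsNilpotent F],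
    Module.finrank k V = d → (Nat.card F : k) ≠ 0 → ∀ ρ : Representation k F V, HasRealVec ρ := by
  intro d
  induction d using Nat.strong_induction_on with
  | _ d ih =>
  intro V _ _ _ F₀ _ _ _ hd hk₀ ρ₀
  let N := MonoidHom.ker ρ₀
  let ρ : Representation k (F₀ ⧸ N) V := QuotientGroup.lift N ρ₀ le_rfl
  have hk : (Nat.card (F₀ ⧸ N) : k) ≠ 0 := by
    intro h
    apply hk₀
    rw [N.card_eq_card_quotient_mul_card_subgroup, Nat.cast_mul, h, zero_mul]
  obtain ⟨v, B, hB, hi⟩ := hasRealVec_step h2 hk ρ (fun g => by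
      obtain ⟨g, rfl⟩ := QuotientGroup.mk_surjective g
      exact fun h => (QuotientGroup.eq_one_iff g).mpr (MonoidHom.mem_ker.mpr h))
    (fun W _ _ _ F' _ _ _ hlt => ih _ (hd ▸ hlt) W F' rfl)
  exact ⟨v, B, hB, fun g hg x y => hi (g : F₀ ⧸ N) hg x y⟩

end CfsgLib.BlockSolv
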